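import Cfsg.Agent.Lib.StrongFusion.Local

/-!
Conjugation families: exact factorizations of a conjugating element (Alperin's argument).
-/

set_option autoImplicit false
set_option linter.unusedSectionVars false

namespace CfsgLib.StrongFusion

open CfsgLib Cfsg
open scoped Pointwise

variable {G : Type*} [Group G]

/-- `g` is a product of steps `(T, n)` with the running conjugate of `A` inside `T`. -/
inductive FChain (St : Subgroup G → G → Prop) : Subgroup G → G → Prop
  | one {A : Subgroup G} : FChain St A 1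
  | step {A T : Subgroup G} {n g : G} (hs : St T n) (hA : A ≤ T) (h : FChain St (cm n A) g) : FChain St A (g * n)

/-- The steps are inside normalizers and closed under inversion. -/
structure GoodSteps (St : Subgroup G → G → Prop) : Prop where
  norm : ∀ T n, St T n → n ∈ Subgroup.normalizer (T : Set G)
  inv : ∀ T n, St T n → St T n⁻¹

variable {St : Subgroup G → G → Prop} {A B T : Subgroup G} {g h n : G}

theorem FChain.single (hs : St T n) (hA : A ≤ T) : FChain St A n := by
  have := FChain.step (g := 1) hs hA FChain.one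
  rwa [one_mul] at this

theorem FChain.mono (h : FChain St A g) : ∀ {B}, B ≤ A → FChain St B g := by
  induction h with
  | one => exact fun _ => .one
  | step hs hA _ ih => exact fun hB => .step hs (hB.trans hA) (ih (cm_mono hB))

theorem FChain.trans (h1 : FChain St A g) : ∀ {h}, FChain St (cm g A) h → FChain St A (h * g) := by
  induction h1 with
  | one =>
    intro h h2
    rw [cm_one] at h2
    rwa [mul_one]
  | @step A T n g hs hA _ ih =>
    intro h h2
    rw [← mul_assoc]
    exact .step hs hA (ih (by rwa [cm_cm]))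

theorem FChain.inv (hSt : GoodSteps St) (h : FChain St A g) : FChain St (cm g A) g⁻¹ := by
  induction h with
  | one => rw [inv_one]; exact .one
  | @step A T n g hs hA h' ih =>
    rw [← cm_cm, mul_inv_rev]
    refine ih.trans ?_
    rw [cm_inv_cm]
    exact .single (hSt.inv T n hs) ((cm_mono hA).trans (Local.map_conj_eq_of_mem_normalizer (hSt.norm T n hs)).le)

/-- The printed form: `x = n⁻¹` step by step, acting on the right. -/
theorem FChain.exists_list (h : FChain St A g) :
    ∃ (k : ℕ) (T : Fin k → Subgroup G) (x : Fin k → G), (List.ofFn x).prod = g⁻¹ ∧ (∀ i, St (T i) (x i)⁻¹) ∧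
      ∀ i : Fin k, cm (((List.ofFn x).take i.val).prod)⁻¹ A ≤ T i := by
  induction h with
  | one => exact ⟨0, fun i => i.elim0, fun i => i.elim0, by simp, fun i => i.elim0, fun i => i.elim0⟩
  | @step A T n g hs hA _ ih =>
    obtain ⟨k, T', x, hp, hst, hin⟩ := ih
    refine ⟨k + 1, Fin.cons T T', Fin.cons n⁻¹ x, ?_, fun i => ?_, fun i => ?_⟩
    · rw [List.ofFn_succ]
      simp [hp]
    · refine Fin.cases ?_ (fun j => ?_) i
      · simpa using hs
      · simpa using hst j
    · refine Fin.cases ?_ (fun j => ?_) i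
      · simpa [cm_one] using hA
      · have := hin j
        rw [cm_cm] at this
        rw [List.ofFn_succ]
        simpa [mul_inv_rev] using this

variable [Finite G] {p : ℕ} [Fact p.Prime]

/-- **Alperin's argument.** -/
theorem fchain_of_good (P : Sylow p G) (hSt : GoodSteps St) (Good : Subgroup G → Prop)
    (hgood : ∀ U ≤ (P : Subgroup G), ∃ y, cm y ((P : Subgroup G) ⊓ Subgroup.normalizer (U : Set G)) ≤ (P : Subgroup G) ∧
      Good (cm y U))
    (hfull : ∀ U ≤ (P : Subgroup G), Good U → Full p (P : Subgroup G) U)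
    (haut : ∀ V ≤ (P : Subgroup G), Good V →
      (∀ (B : Subgroup G) (y : G), Nat.card V < Nat.card B → B ≤ (P : Subgroup G) → cm y B ≤ (P : Subgroup G) →
        FChain St B y) →
      ∀ w ∈ Subgroup.normalizer (V : Set G), FChain St V w)
    {A : Subgroup G} {g : G} (hA : A ≤ (P : Subgroup G)) (hg : cm g A ≤ (P : Subgroup G)) : FChain St A g := by
  induction hk : Nat.card G - Nat.card A using Nat.strong_induction_on generalizing A g with
  | h k ih =>
  subst hk
  have big : ∀ (B : Subgroup G) (y : G), Nat.card A < Nat.card B → B ≤ (P : Subgroup G) →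
      cm y B ≤ (P : Subgroup G) → FChain St B y := fun B y hc hB hy =>
    ih _ (by have := Nat.le_of_dvd Nat.card_pos B.card_subgroup_dvd_card; omega) hB hy rfl
  by_cases hAP : A = (P : Subgroup G)
  · obtain ⟨y, hy, hyg⟩ := hgood A hA
    have hA' : cm y A = A := Subgroup.eq_of_le_of_card_ge
      (((cm_mono (le_inf hA Subgroup.le_normalizer)).trans hy).trans hAP.ge) (card_cm y A).ge
    rw [hA'] at hyg
    exact haut A hA hyg big g (Local.mem_normalizer_of_map_conj_eq
      (Subgroup.eq_of_le_of_card_ge (hg.trans hAP.ge) (card_cm g A).ge))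
  have hlarge : ∀ C : Subgroup G, C ≤ (P : Subgroup G) → Nat.card C = Nat.card A →
      Nat.card A < Nat.card ↥((P : Subgroup G) ⊓ Subgroup.normalizer (C : Set G)) := by
    intro C hC hc
    have hne : C ≠ (P : Subgroup G) := fun h => hAP (Subgroup.eq_of_le_of_card_ge hA (by rw [← hc, h]))
    have h := lt_inf_normalizer P hC hne
    rw [← hc]
    exact lt_of_le_of_ne (Subgroup.card_le_of_le h.le) fun e => h.ne (Subgroup.eq_of_le_of_card_ge h.le e.ge)
  obtain ⟨y₁, hy₁, hVg⟩ := hgood A hA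
  set V := cm y₁ A with hV
  have hVP : V ≤ (P : Subgroup G) := (cm_mono (le_inf hA Subgroup.le_normalizer)).trans hy₁
  have hchA : FChain St A y₁ :=
    (big _ y₁ (hlarge A hA rfl) inf_le_left hy₁).mono (le_inf hA Subgroup.le_normalizer)
  set TB := (P : Subgroup G) ⊓ Subgroup.normalizer (cm g A : Set G) with hTB
  set z := y₁ * g⁻¹ with hz
  have hzB : cm z (cm g A) = V := by rw [cm_cm, hz, inv_mul_cancel_right]
  obtain ⟨w, hwN, hw⟩ := exists_conj_le (Q := (P : Subgroup G) ⊓ Subgroup.normalizer (V : Set G)) inf_le_right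
    (P.2.to_le inf_le_left) (hfull V hVP hVg) (R := cm z TB)
    (Local.map_conj_le fun x hx => Local.mem_normalizer_of_map_conj_eq (by
      show cm (z * x * z⁻¹) V = V
      rw [← hzB, cm_cm, show z * x * z⁻¹ * z = z * x by group, ← cm_cm]
      exact congrArg (cm z) (Local.map_conj_eq_of_mem_normalizer hx.2)))
    ((P.2.to_le inf_le_left).map _)
  have hwz : cm (w * z) TB ≤ (P : Subgroup G) := by rw [← cm_cm]; exact hw.trans inf_le_left
  have hchB : FChain St (cm g A) (w * z) :=
    (big TB (w * z) (hlarge _ hg (card_cm g A)) inf_le_left hwz).mono (le_inf hg Subgroup.le_normalizer)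
  have hRV := haut V hVP hVg (fun B y hc => big B y (by rwa [hV, card_cm] at hc)) w hwN
  have hwV : cm w V = V := Local.map_conj_eq_of_mem_normalizer hwN
  have h3 := hchB.inv hSt
  rw [← cm_cm, hzB, hwV] at h3
  have h4 : FChain St A ((w * z)⁻¹ * (w * y₁)) := by
    refine (hchA.trans hRV).trans ?_
    rw [← cm_cm, hwV]
    exact h3
  rwa [show (w * z)⁻¹ * (w * y₁) = g by rw [hz]; group] at h4

/-- The printed statement on sets. -/
theorem exists_list_of_good (P : Sylow p G) (hSt : GoodSteps St) (Good : Subgroup G → Prop)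
    (hgood : ∀ U ≤ (P : Subgroup G), ∃ y, cm y ((P : Subgroup G) ⊓ Subgroup.normalizer (U : Set G)) ≤ (P : Subgroup G) ∧
      Good (cm y U))
    (hfull : ∀ U ≤ (P : Subgroup G), Good U → Full p (P : Subgroup G) U)
    (haut : ∀ V ≤ (P : Subgroup G), Good V →
      (∀ (B : Subgroup G) (y : G), Nat.card V < Nat.card B → B ≤ (P : Subgroup G) → cm y B ≤ (P : Subgroup G) →
        FChain St B y) →
      ∀ w ∈ Subgroup.normalizer (V : Set G), FChain St V w)
    {A : Set G} {g : G} (hA : A ⊆ (P : Subgroup G)) (hg : (fun a => g⁻¹ * a * g) '' A ⊆ (P : Subgroup G)) :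
    ∃ (k : ℕ) (T : Fin k → Subgroup G) (x : Fin k → G), (List.ofFn x).prod = g ∧ (∀ i, St (T i) (x i)) ∧
      ∀ i : Fin k, (fun a => (((List.ofFn x).take i.val).prod)⁻¹ * a * ((List.ofFn x).take i.val).prod) '' A ⊆
        (T i : Set G) := by
  have h := fchain_of_good P hSt Good hgood hfull haut (A := Subgroup.closure A) (g := g⁻¹)
    ((Subgroup.closure_le _).2 hA) (by
      rw [cm, MonoidHom.map_closure]
      refine (Subgroup.closure_le _).2 ?_
      rintro _ ⟨a, ha, rfl⟩
      have := hg ⟨a, ha, rfl⟩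
      simpa using this)
  obtain ⟨k, T, x, hp, hs, hin⟩ := h.exists_list
  refine ⟨k, T, x, by rw [hp, inv_inv], fun i => ?_, fun i => ?_⟩
  · have := hSt.inv _ _ (hs i)
    rwa [inv_inv] at this
  · rintro _ ⟨a, ha, rfl⟩
    have := hin i (conj_mem_cm (Subgroup.subset_closure ha))
    rwa [inv_inv] at this

/-- A class meeting every conjugacy class in fully normalized subgroups is a conjugation family. -/
theorem isConjugationFamily_of_good (P : Sylow p G) (𝓕 : Set (Subgroup G))
    (h𝓕 : ∀ U ∈ 𝓕, U ≤ (P : Subgroup G))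
    (hgood : ∀ U ≤ (P : Subgroup G), ∃ y, cm y ((P : Subgroup G) ⊓ Subgroup.normalizer (U : Set G)) ≤ (P : Subgroup G) ∧
      cm y U ∈ 𝓕 ∧ Full p (P : Subgroup G) (cm y U)) :
    IsConjugationFamily 𝓕 (P : Subgroup G) := by
  refine ⟨h𝓕, fun A g _ hA hg => ?_⟩
  obtain ⟨k, T, x, hp, hs, hin⟩ := exists_list_of_good (St := fun T n => T ∈ 𝓕 ∧ n ∈ Subgroup.normalizer (T : Set G)) P
    ⟨fun _ _ h => h.2, fun _ _ h => ⟨h.1, inv_mem h.2⟩⟩ (fun U => U ∈ 𝓕 ∧ Full p (P : Subgroup G) U) hgood
    (fun _ _ h => h.2) (fun V _ hVg _ w hw => .single ⟨hVg.1, hw⟩ le_rfl) hA hg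
  refine ⟨k, T, x, hp, fun i => (hs i).1, fun i => (hs i).2, fun h0 a ha => ?_, fun i hi => hin ⟨i.val + 1, hi⟩⟩
  have := hin ⟨0, h0⟩ ⟨a, ha, rfl⟩
  simpa using this

/-- Alperin's tame intersections, with `p`-elements as factors outside `P`. -/
theorem exists_list_tame (P : Sylow p G) {A : Set G} {g : G} (hA : A ⊆ (P : Subgroup G))
    (hg : (fun a => g⁻¹ * a * g) '' A ⊆ (P : Subgroup G)) :
    ∃ (k : ℕ) (T : Fin k → Subgroup G) (x : Fin k → G), (List.ofFn x).prod = g ∧
      (∀ i, x i ∈ Subgroup.normalizer (T i : Set G) ∧ Full p (P : Subgroup G) (T i) ∧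
        ∃ Q : Sylow p G, (P : Subgroup G) ⊓ (Q : Subgroup G) = T i ∧ Full p (Q : Subgroup G) (T i) ∧
          ((Q : Subgroup G) = (P : Subgroup G) ∨ ∃ j : ℕ, orderOf (x i) = p ^ j)) ∧
      ∀ i : Fin k, (fun a => (((List.ofFn x).take i.val).prod)⁻¹ * a * ((List.ofFn x).take i.val).prod) '' A ⊆
        (T i : Set G) := by
  set St : Subgroup G → G → Prop := fun T n => n ∈ Subgroup.normalizer (T : Set G) ∧ Full p (P : Subgroup G) T ∧
    ∃ Q : Sylow p G, (P : Subgroup G) ⊓ (Q : Subgroup G) = T ∧ Full p (Q : Subgroup G) T ∧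
      ((Q : Subgroup G) = (P : Subgroup G) ∨ ∃ j : ℕ, orderOf n = p ^ j) with hSt
  have hgs : GoodSteps St := ⟨fun _ _ h => h.1, fun _ n ⟨h1, h2, Q, h3, h4, h5⟩ =>
    ⟨inv_mem h1, h2, Q, h3, h4, h5.imp id fun ⟨j, hj⟩ => ⟨j, by rw [orderOf_inv, hj]⟩⟩⟩
  refine exists_list_of_good P hgs (Full p (P : Subgroup G)) (fun U hU => exists_full P hU) (fun _ _ h => h) ?_ hA hg
  intro V hV hVf big w hw
  set N := Subgroup.normalizer (V : Set G) with hN
  set S := (P : Subgroup G) ⊓ N with hS
  by_cases hVP : V = (P : Subgroup G)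
  · exact .single (T := V) ⟨hw, hVf, P, by rw [inf_idem, hVP], hVf, Or.inl rfl⟩ le_rfl
  have hVS : V < S := lt_inf_normalizer P hV hVP
  have hVSc : Nat.card V < Nat.card S :=
    lt_of_le_of_ne (Subgroup.card_le_of_le hVS.le) fun h => hVS.ne (Subgroup.eq_of_le_of_card_ge hVS.le h.ge)
  let K : Subgroup G :=
    { carrier := {w | w ∈ N ∧ FChain St V w}
      one_mem' := ⟨one_mem _, .one⟩
      mul_mem' := fun {a b} ha hb => ⟨mul_mem ha.1 hb.1,
        hb.2.trans (by rw [show cm b V = V from Local.map_conj_eq_of_mem_normalizer hb.1]; exact ha.2)⟩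
      inv_mem' := fun {a} ha => ⟨inv_mem ha.1, by
        have := ha.2.inv hgs
        rwa [show cm a V = V from Local.map_conj_eq_of_mem_normalizer ha.1] at this⟩ }
  have hK : ∀ (B : Subgroup G) (u : G), u ∈ N → V < B → B ≤ (P : Subgroup G) → cm u B ≤ (P : Subgroup G) → u ∈ K :=
    fun B u hu hVB hB huB => ⟨hu, (big B u
      (lt_of_le_of_ne (Subgroup.card_le_of_le hVB.le) fun h => hVB.ne (Subgroup.eq_of_le_of_card_ge hVB.le h.ge))
      hB huB).mono hVB.le⟩
  suffices hle : N ≤ K from (hle hw).2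
  by_cases htame : ∀ u ∈ N, V < S ⊓ cm u⁻¹ S
  · exact fun u hu => hK _ u hu (htame u hu) (inf_le_left.trans inf_le_left)
      ((cm_mono inf_le_right).trans (by
        show cm u (cm u⁻¹ S) ≤ _
        rw [cm_cm, mul_inv_cancel, cm_one]
        exact inf_le_left))
  push Not at htame
  obtain ⟨u, hu, hnot⟩ := htame
  have huS : cm u⁻¹ S ≤ N :=
    (cm_mono inf_le_right).trans (Local.map_conj_eq_of_mem_normalizer (Subgroup.le_normalizer (inv_mem hu))).le
  have huV : cm u⁻¹ V = V := Local.map_conj_eq_of_mem_normalizer (inv_mem hu)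
  have hVu : V = S ⊓ cm u⁻¹ S :=
    ((le_inf hVS.le (huV.ge.trans (cm_mono hVS.le))).lt_or_eq.resolve_left hnot)
  obtain ⟨Q, hQ⟩ := ((P.2.to_le (inf_le_left : S ≤ _)).map (MulAut.conj u⁻¹).toMonoidHom).exists_le_sylow
  have hQN : (Q : Subgroup G) ⊓ N = cm u⁻¹ S := by
    refine (Subgroup.eq_of_le_of_card_ge (le_inf hQ huS) ?_).symm
    obtain ⟨m, -, hm⟩ := exists_conj_le (Q := S) inf_le_right (P.2.to_le inf_le_left) hVf
      (inf_le_right : (Q : Subgroup G) ⊓ N ≤ N) (Q.2.to_le inf_le_left)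
    rw [card_cm]
    exact card_cm m _ ▸ Subgroup.card_le_of_le hm
  have hVQ : V ≤ (Q : Subgroup G) := (huV.ge.trans (cm_mono hVS.le)).trans hQ
  have hPQ : (P : Subgroup G) ⊓ (Q : Subgroup G) = V := by
    refine le_antisymm ?_ (le_inf hV hVQ)
    by_contra hne
    haveI : Group.IsNilpotent ↥((P : Subgroup G) ⊓ (Q : Subgroup G)) := (P.2.to_le inf_le_left).isNilpotent
    set D := (P : Subgroup G) ⊓ (Q : Subgroup G) with hD
    have hVD : V ≤ D := le_inf hV hVQ
    have hlt : V.subgroupOf D < ⊤ := lt_of_le_of_ne le_top fun e => hne (Subgroup.subgroupOf_eq_top.1 e)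
    obtain ⟨x, hx1, hx2⟩ := SetLike.exists_of_lt
      (Group.normalizerCondition_of_isNilpotent (V.subgroupOf D) hlt)
    refine hx2 (Subgroup.mem_subgroupOf.2 (hVu.ge ?_))
    have hxN : (x : G) ∈ N := by
      have h1 := Subgroup.le_normalizer_map D.subtype ⟨x, hx1, rfl⟩
      rwa [Subgroup.subgroupOf_map_subtype, inf_eq_left.2 hVD] at h1
    exact ⟨⟨x.2.1, hxN⟩, hQN.le ⟨x.2.2, hxN⟩⟩
  have hQfull : Full p (Q : Subgroup G) V := by
    show ¬ p ∣ ((Q : Subgroup G) ⊓ N).relIndex N
    rw [hQN]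
    have h := Subgroup.relIndex_map_map_of_injective S N (f := (MulAut.conj u⁻¹).toMonoidHom) (MulAut.conj u⁻¹).injective
    rw [show N.map (MulAut.conj u⁻¹).toMonoidHom = N from
      Local.map_conj_eq_of_mem_normalizer (Subgroup.le_normalizer (inv_mem hu))] at h
    show ¬ p ∣ (S.map (MulAut.conj u⁻¹).toMonoidHom).relIndex N
    rw [h]
    exact hVf
  -- `p`-elements lie in `K`
  have hpel : ∀ x ∈ N, (∃ j : ℕ, orderOf x = p ^ j) → x ∈ K := fun x hx hj =>
    ⟨hx, .single (T := V) ⟨hx, hVf, Q, hPQ, hQfull, Or.inr hj⟩ le_rfl⟩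
  intro x hx
  set L := Subgroup.closure {y : G | y ∈ N ∧ ∃ j : ℕ, orderOf y = p ^ j} with hL
  have hLK : L ≤ K := (Subgroup.closure_le _).2 fun y hy => hpel y hy.1 hy.2
  have hLN : L ≤ N := (Subgroup.closure_le _).2 fun y hy => hy.1
  have hSL : S ≤ L := fun y hy => Subgroup.subset_closure ⟨hy.2, by
    obtain ⟨j, hj⟩ := (P.2.to_le (inf_le_left : S ≤ _)) ⟨y, hy⟩
    obtain ⟨i, -, hi⟩ := (Nat.dvd_prime_pow Fact.out).1
      (orderOf_dvd_of_pow_eq_one (n := p ^ j) (congrArg Subtype.val hj))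
    exact ⟨i, hi⟩⟩
  have hxL : cm x L ≤ L := by
    rw [hL, cm, MonoidHom.map_closure]
    refine Subgroup.closure_mono ?_
    rintro _ ⟨y, hy, rfl⟩
    exact ⟨mul_mem (mul_mem hx hy.1) (inv_mem hx), by
      obtain ⟨j, hj⟩ := hy.2
      exact ⟨j, by rw [← hj]; exact orderOf_injective (MulAut.conj x).toMonoidHom (MulAut.conj x).injective y⟩⟩
  obtain ⟨l, hl, hlS⟩ := exists_conj_le (Q := S) hSL (P.2.to_le inf_le_left)
    (fun h => hVf (h.trans (Dvd.intro _ (Subgroup.relIndex_mul_relIndex S L N hSL hLN))))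
    (R := cm x S) ((cm_mono hSL).trans hxL) ((P.2.to_le inf_le_left).map _)
  rw [cm_cm] at hlS
  have hlx : l * x ∈ K := hK S _ (mul_mem (hLN hl) hx) hVS inf_le_left (hlS.trans inf_le_left)
  have := mul_mem (inv_mem (hLK hl)) hlx
  rwa [inv_mul_cancel_left] at this

end CfsgLib.StrongFusion
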