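import Cfsg.Agent.Lib.StrongFusion.Functors

/-!
`Qd(p)` shows up as an `SL₂(p)` section of the normalizer of a subgroup containing `Z(S)`.
-/

set_option autoImplicit false
set_option linter.unusedSectionVars false

namespace CfsgLib.StrongFusion

open CfsgLib Cfsg
open CfsgLib.QdSection (Vec act linHom trHom)
open scoped Pointwise

variable {p : ℕ} [Fact p.Prime]

theorem linHom_injective : Function.Injective (linHom (p := p)) := by
  intro M N h
  refine QdSection.act_ext fun v => ?_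
  have hinj : Function.Injective (trHom (p := p)) := fun v w h => by
    obtain ⟨h1, h2⟩ := Qd.tr_injective h
    exact Multiplicative.toAdd.injective (funext (by simp [Fin.forall_fin_two, h1, h2]))
  exact hinj (by rw [← QdSection.linHom_conj, h, QdSection.linHom_conj])

variable {G : Type*} [Group G]

theorem involves_sl2_of_involves_qd (h : Involves (Cfsg.qd p) G) :
    Involves (Matrix.SpecialLinearGroup (Fin 2) (ZMod p)) G := by
  obtain ⟨K, R, hR, ⟨e⟩⟩ := h
  refine Quadratic.involves_section K R ?_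
  set f : Matrix.SpecialLinearGroup (Fin 2) (ZMod p) →* K ⧸ R.subgroupOf K := e.symm.toMonoidHom.comp linHom with hf
  exact QdSection.involves_of_surjective f.range
    (MonoidHom.ofInjective (f := f) (e.symm.injective.comp linHom_injective)).symm.toMonoidHom
    (MulEquiv.surjective _)

variable [Finite G]

theorem not_dvd_relIndex_inf {T C N : Subgroup G} (hTN : T ≤ N) (hT : IsPGroup p T) (hidx : ¬ p ∣ T.relIndex N)
    (hCN : C ≤ N) (hC : ∀ y ∈ N, ∀ c ∈ C, y * c * y⁻¹ ∈ C) : ¬ p ∣ (T ⊓ C).relIndex C := by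
  obtain ⟨S⟩ := (inferInstance : Nonempty (Sylow p C))
  set SG := (S : Subgroup C).map C.subtype with hSG
  obtain ⟨l, hlN, hl⟩ := exists_conj_le hTN hT hidx (R := SG) ((Subgroup.map_subtype_le _).trans hCN) (S.2.map _)
  intro h
  refine S.not_dvd_index ?_
  have h2 : SG.relIndex C = (S : Subgroup C).index := by
    rw [hSG, Subgroup.relIndex, Subgroup.subgroupOf, Subgroup.comap_map_eq_self_of_injective C.subtype_injective]
  have hlC : cm l C = C := Subgroup.eq_of_le_of_card_ge
    (Local.map_conj_le fun y hy => hC l hlN y hy) (card_cm l C).ge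
  have h3 : (cm l SG).relIndex C = SG.relIndex C := by
    conv_lhs => rw [← hlC]
    exact Subgroup.relIndex_map_map_of_injective _ _ (MulAut.conj l).injective
  rw [← h2, ← h3]
  refine h.trans (Subgroup.relIndex_dvd_of_le_left _ (le_inf hl ?_))
  rintro _ ⟨q, hq, rfl⟩
  exact hC l hlN q (Subgroup.map_subtype_le _ hq)

/-- A section `Qd(p)` gives an `SL₂(p)` section in some `N_G(P)` with `Z(S) ≤ P ≤ S`. -/
theorem exists_sl2_local (S : Sylow p G) (h : Involves (Cfsg.qd p) G) :
    ∃ P : Subgroup G, (S : Subgroup G) ⊓ Subgroup.centralizer ((S : Subgroup G) : Set G) ≤ P ∧ P ≤ (S : Subgroup G) ∧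
      Involves (Matrix.SpecialLinearGroup (Fin 2) (ZMod p)) (Subgroup.normalizer (P : Set G)) := by
  obtain ⟨Y₀, hY₀S, e₀, he₀, hM₀⟩ := QdSection.exists_witness_of_involves S h
  obtain ⟨y, hy, hfull⟩ := exists_full S hY₀S
  set Y := cm y Y₀ with hY
  have hYS : Y ≤ (S : Subgroup G) := (cm_mono (le_inf hY₀S Subgroup.le_normalizer)).trans hy
  set N := Subgroup.normalizer (Y : Set G) with hN
  set C := Subgroup.centralizer (Y : Set G) with hC
  have hCN : C ≤ N := fun c hc => Local.mem_normalizer_of_map_conj_eq (cm_eq_self fun v hv => by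
    rw [← hc v hv, mul_inv_cancel_right])
  have hCn : ∀ z ∈ N, ∀ c ∈ C, z * c * z⁻¹ ∈ C := fun z hz c hc v hv => by
    have h1 := hc _ ((Subgroup.mem_normalizer_iff.1 (inv_mem hz) v).1 hv)
    calc v * (z * c * z⁻¹) = z * ((z⁻¹ * v * z⁻¹⁻¹) * c) * z⁻¹ := by group
      _ = z * (c * (z⁻¹ * v * z⁻¹⁻¹)) * z⁻¹ := by rw [h1]
      _ = z * c * z⁻¹ * v := by group
  set T := (S : Subgroup G) ⊓ N with hT
  set R := T ⊓ C with hR
  have hRidx := not_dvd_relIndex_inf inf_le_right (S.2.to_le inf_le_left) hfull hCN hCn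
  refine ⟨Y ⊔ R, ?_, sup_le hYS (inf_le_left.trans inf_le_left), ?_⟩
  · refine le_trans ?_ le_sup_right
    exact le_inf (center_le_inf_normalizer hYS) fun z hz v hv => hz.2 v (hYS hv)
  · set H := Subgroup.normalizer ((Y ⊔ R : Subgroup G) : Set G) with hH
    have hYH : Y ≤ H := le_sup_left.trans Subgroup.le_normalizer
    have hback : ∀ w : Y, y⁻¹ * (w : G) * y ∈ Y₀ := fun w => mem_cm.1 w.2
    let eY : Y →* Vec p := MonoidHom.mk' (fun w => e₀ ⟨_, hback w⟩) fun a b => by
      rw [← map_mul]; congr 1; exact Subtype.ext (by simp [mul_assoc])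
    let eH : Y.subgroupOf H →* Vec p := eY.comp (Subgroup.subgroupOfEquivOfLe hYH).toMonoidHom
    have heY : Function.Surjective eY := fun v => by
      obtain ⟨w, rfl⟩ := he₀ v
      exact ⟨⟨y * w * y⁻¹, conj_mem_cm w.2⟩, by show e₀ _ = e₀ w; congr 1; exact Subtype.ext (by simp [mul_assoc])⟩
    refine involves_sl2_of_involves_qd (QdSection.involves_of_witness (Y.subgroupOf H)
      ((S.2.to_le hYS).of_equiv (Subgroup.subgroupOfEquivOfLe hYH).symm) eH
      (heY.comp (Subgroup.subgroupOfEquivOfLe hYH).surjective) fun M => ?_)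
    obtain ⟨g₀, hg₀, hg₀e⟩ := hM₀ M
    set g := y * g₀ * y⁻¹ with hg
    have hgN : g ∈ N := Local.mem_normalizer_of_map_conj_eq (by
      show cm g (cm y Y₀) = cm y Y₀
      rw [cm_cm, hg, inv_mul_cancel_right, ← cm_cm]
      exact congrArg (cm y) (Local.map_conj_eq_of_mem_normalizer hg₀))
    obtain ⟨c, hc, hcg⟩ := exists_conj_le (Q := R) inf_le_right (S.2.to_le (inf_le_left.trans inf_le_left)) hRidx
      (R := cm g R) (Local.map_conj_le fun z hz => hCn g hgN z hz.2) ((S.2.to_le (inf_le_left.trans inf_le_left)).map _)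
    rw [cm_cm] at hcg
    set n := c * g with hn
    have hnY : cm n Y = Y := Local.map_conj_eq_of_mem_normalizer (mul_mem (hCN hc) hgN)
    have hnR : cm n R = R := Subgroup.eq_of_le_of_card_ge hcg (card_cm n R).ge
    have hnH : n ∈ H := Local.mem_normalizer_of_map_conj_eq (by
      rw [Subgroup.map_sup]
      exact congrArg₂ (· ⊔ ·) hnY hnR)
    refine ⟨⟨n, hnH⟩, Local.mem_normalizer_of_map_conj_eq (Subgroup.eq_of_le_of_card_ge
      (Local.map_conj_le fun w hw => hnY.le (conj_mem_cm hw)) (card_cm _ _).ge), fun w hw' => ?_⟩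
    set w₀ : Y₀ := ⟨y⁻¹ * (w : H) * y, mem_cm.1 (show ((w : H) : G) ∈ cm y Y₀ from w.2)⟩ with hw₀
    have hgw : g₀ * (w₀ : G) * g₀⁻¹ ∈ Y₀ := (Subgroup.mem_normalizer_iff.1 hg₀ _).1 w₀.2
    refine Eq.trans ?_ (hg₀e w₀ hgw)
    show e₀ _ = e₀ _
    congr 1
    refine Subtype.ext ?_
    show y⁻¹ * (n * (w : H) * n⁻¹) * y = g₀ * (y⁻¹ * (w : H) * y) * g₀⁻¹
    have h1 : g * (w : H) * g⁻¹ ∈ Y := (Subgroup.mem_normalizer_iff.1 hgN _).1 w.2
    have h2 : n * (w : H) * n⁻¹ = g * (w : H) * g⁻¹ := by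
      calc n * (w : H) * n⁻¹ = c * (g * (w : H) * g⁻¹) * c⁻¹ := by rw [hn]; group
        _ = g * (w : H) * g⁻¹ := by rw [← hc _ h1, mul_inv_cancel_right]
    rw [h2, hg]
    group

end CfsgLib.StrongFusion
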