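import Cfsg.Agent.Lib.StrongFusion.Abelian
import Cfsg.Agent.Lib.Quadratic.Stable
import Cfsg.Agent.Lib.SylowExtra
import Cfsg.Agent.Lib.Elementary
import Cfsg.Prelude.Def_TwoFusion
import Cfsg.Prelude.Def_LocalEven

/-!
Control of strong fusion in every section follows from control in the constrained sections.
-/

set_option autoImplicit false
set_option linter.unusedSectionVars false

namespace CfsgLib.StrongFusion

open CfsgLib Cfsg
open scoped Pointwise

universe u

variable {p : ℕ}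

section Basics

variable {X Y : Type u} [Group X] [Group Y]

theorem map_cm (f : X →* Y) (n : X) (A : Subgroup X) : (cm n A).map f = cm (f n) (A.map f) := by
  ext y
  constructor
  · rintro ⟨_, ⟨a, ha, rfl⟩, rfl⟩
    exact ⟨f a, ⟨a, ha, rfl⟩, by simp⟩
  · rintro ⟨_, ⟨a, ha, rfl⟩, rfl⟩
    exact ⟨_, ⟨a, ha, rfl⟩, by simp⟩

/-- Image of a chain. -/
theorem Chain.map {T : Subgroup X} {S : Set X} {S' : Set Y} {A : Subgroup X} {g : X} (f : X →* Y)
    (hS : ∀ n ∈ S, f n ∈ S') (h : Chain T S A g) : Chain (T.map f) S' (A.map f) (f g) := by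
  induction h with
  | @refl A g hA hg =>
    refine .refl (Subgroup.map_mono hA) ?_
    rintro _ ⟨a, ha, rfl⟩
    rw [← map_inv, ← map_mul, ← map_mul, hg a ha]
  | @step A n g hA hn _ ih =>
    rw [map_mul]
    exact .step (Subgroup.map_mono hA) (hS n hn) (by rw [← map_cm]; exact ih)

theorem exists_surjective_of_involves (h : Involves Y X) :
    ∃ (K : Subgroup X) (f : K →* Y), Function.Surjective f := by
  obtain ⟨K, R, hR, ⟨e⟩⟩ := h
  exact ⟨K, e.toMonoidHom.comp (QuotientGroup.mk' _), e.surjective.comp (QuotientGroup.mk'_surjective _)⟩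

theorem involves_of_quotientHom {Z : Type u} [Group Z] (f : X →* Y) (hf : Function.Surjective f) (h : Involves Z Y) :
    Involves Z X := by
  obtain ⟨K, g, hg⟩ := exists_surjective_of_involves h
  obtain ⟨g', hg'⟩ := Quadratic.exists_surjective_comap f hf g hg
  exact QdSection.involves_of_surjective _ g' hg'

theorem involves_of_injective {Z : Type u} [Group Z] (f : Y →* X) (hf : Function.Injective f) (h : Involves Z Y) :
    Involves Z X := by
  obtain ⟨K, g, hg⟩ := exists_surjective_of_involves h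
  obtain ⟨g', hg'⟩ := Quadratic.exists_surjective_map f hf g hg
  exact QdSection.involves_of_surjective _ g' hg'

theorem involves_self : Involves X X :=
  QdSection.involves_of_surjective ⊤ (⊤ : Subgroup X).subtype fun x => ⟨⟨x, trivial⟩, rfl⟩

variable [Fact p.Prime]

theorem inducedFunctor_map {W : ∀ (Q : Type u) [Group Q], Subgroup Q} (hW : IsCharPFunctor p W) (f : X →* Y)
    {T : Subgroup X} [Finite T] (hT : IsPGroup p T) (hf : Set.InjOn f (T : Set X)) :
    inducedFunctor W (T.map f) = (inducedFunctor W T).map f := by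
  let e : T ≃* T.map f := MulEquiv.ofBijective (f.subgroupMap T)
    ⟨fun a b h => Subtype.ext (hf a.2 b.2 (congrArg Subtype.val h)), f.subgroupMap_surjective T⟩
  have h := hW.2 T (T.map f) hT e
  rw [inducedFunctor, inducedFunctor, ← h, Subgroup.map_map, Subgroup.map_map]
  rfl

theorem inducedFunctor_le (W : ∀ (Q : Type u) [Group Q], Subgroup Q) (T : Subgroup X) : inducedFunctor W T ≤ T :=
  Subgroup.map_subtype_le _

theorem inducedFunctor_ne_bot {W : ∀ (Q : Type u) [Group Q], Subgroup Q} (hW : IsCharPFunctor p W) [Finite X]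
    {T : Subgroup X} (hT : IsPGroup p T) (h : T ≠ ⊥) : inducedFunctor W T ≠ ⊥ := fun hb =>
  hW.1 T hT ((Subgroup.nontrivial_iff_ne_bot T).2 h)
    ((Subgroup.map_eq_bot_iff_of_injective _ T.subtype_injective).1 hb)

theorem inducedFunctor_cm {W : ∀ (Q : Type u) [Group Q], Subgroup Q} (hW : IsCharPFunctor p W) [Finite X]
    {T : Subgroup X} (hT : IsPGroup p T) (g : X) : inducedFunctor W (cm g T) = cm g (inducedFunctor W T) :=
  inducedFunctor_map hW _ hT (MulAut.conj g).injective.injOn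

theorem normalizer_le_normalizer_induced {W : ∀ (Q : Type u) [Group Q], Subgroup Q} (hW : IsCharPFunctor p W)
    [Finite X] {T : Subgroup X} (hT : IsPGroup p T) :
    Subgroup.normalizer (T : Set X) ≤ Subgroup.normalizer (inducedFunctor W T : Set X) :=
  normalizer_le_normalizer_of_equivariant (W := inducedFunctor W) (inducedFunctor_cm hW hT)

theorem isConjugacyFunctor_induced {W : ∀ (Q : Type u) [Group Q], Subgroup Q} (hW : IsCharPFunctor p W) [Finite X] :
    IsConjugacyFunctor p (inducedFunctor (G := X) W) := fun P hP =>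
  ⟨inducedFunctor_le W P, inducedFunctor_ne_bot hW hP, inducedFunctor_cm hW hP⟩

/-- The functors relative to `E`. -/
def famAt (𝔚 : Set (∀ (Q : Type u) [Group Q], Subgroup Q)) (E : Subgroup X) : Set (Subgroup X → Subgroup X) :=
  (fun W => fun S => inducedFunctor W (E ⊓ S)) '' 𝔚

theorem mem_steps_famAt {𝔚 : Set (∀ (Q : Type u) [Group Q], Subgroup Q)} {E S : Subgroup X} {n : X} :
    n ∈ steps (famAt 𝔚 E) S ↔ ∃ W ∈ 𝔚, n ∈ Subgroup.normalizer (inducedFunctor W (E ⊓ S) : Set X) := by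
  constructor
  · rintro ⟨_, ⟨W, hW, rfl⟩, hn⟩
    exact ⟨W, hW, hn⟩
  · rintro ⟨W, hW, hn⟩
    exact ⟨_, ⟨W, hW, rfl⟩, hn⟩

variable [Finite X]

/-- A Sylow subgroup normalizes a strongly closed subgroup. -/
theorem le_normalizer_of_closed {P D : Subgroup X} (hD : IsStronglyClosed D P) :
    P ≤ Subgroup.normalizer (D : Set X) := fun s hs =>
  Local.mem_normalizer_of_map_conj_eq (Subgroup.eq_of_le_of_card_ge (Local.map_conj_le fun x hx =>
    hD.2 x hx s (mul_mem (mul_mem hs (hD.1 hx)) (inv_mem hs))) (card_cm s D).ge)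

/-- A stabilizer of `1 ≤ Q ≤ V` acts on `V` through a Sylow subgroup. -/
theorem exists_agree_stabilizer (P : Sylow p X) {V Q : Subgroup X} (hV : V ≤ (P : Subgroup X))
    (hVf : Full p (P : Subgroup X) V) (hQ : Q ≤ V) [Q.Normal]
    (hC : ∀ x : X, (orderOf x).Coprime p → x ∈ Subgroup.centralizer (Q : Set X))
    {e : X} (he : e ∈ Subgroup.normalizer (V : Set X)) (hes : ∀ v ∈ V, e * v * e⁻¹ * v⁻¹ ∈ Q) :
    ∃ s ∈ (P : Subgroup X) ⊓ Subgroup.normalizer (V : Set X), ∀ v ∈ V, e * v * e⁻¹ = s * v * s⁻¹ := by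
  set N := Subgroup.normalizer (V : Set X) with hN
  have hnv : ∀ {y : X}, y ∈ N → ∀ v ∈ V, y * v * y⁻¹ ∈ V := fun hy v hv =>
    (Subgroup.mem_normalizer_iff.1 hy v).1 hv
  have hQn : ∀ (y : X), ∀ q ∈ Q, y * q * y⁻¹ ∈ Q := fun y q hq => (inferInstance : Q.Normal).conj_mem q hq y
  let E : Subgroup X :=
    { carrier := {y | y ∈ N ∧ ∀ v ∈ V, y * v * y⁻¹ * v⁻¹ ∈ Q}
      one_mem' := ⟨N.one_mem, fun v _ => by simp [Q.one_mem]⟩
      mul_mem' := by
        rintro y z ⟨hy, hy2⟩ ⟨hz, hz2⟩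
        refine ⟨N.mul_mem hy hz, fun v hv => ?_⟩
        rw [show y * z * v * (y * z)⁻¹ * v⁻¹ = (y * (z * v * z⁻¹ * v⁻¹) * y⁻¹) * (y * v * y⁻¹ * v⁻¹) by group]
        exact Q.mul_mem (hQn y _ (hz2 v hv)) (hy2 v hv)
      inv_mem' := by
        rintro y ⟨hy, hy2⟩
        refine ⟨N.inv_mem hy, fun v hv => ?_⟩
        rw [show y⁻¹ * v * y⁻¹⁻¹ * v⁻¹ = (y * (y⁻¹ * v * y) * y⁻¹ * (y⁻¹ * v * y)⁻¹)⁻¹ by group]
        exact Q.inv_mem (hy2 _ (by simpa using hnv (N.inv_mem hy) v hv)) }
  have hEn : ∀ y ∈ N, ∀ c ∈ E, y * c * y⁻¹ ∈ E := by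
    rintro y hy c ⟨hc, hc2⟩
    refine ⟨N.mul_mem (N.mul_mem hy hc) (N.inv_mem hy), fun v hv => ?_⟩
    have h1 := hQn y _ (hc2 _ (hnv (N.inv_mem hy) v hv))
    rwa [show y * (c * (y⁻¹ * v * y⁻¹⁻¹) * c⁻¹ * (y⁻¹ * v * y⁻¹⁻¹)⁻¹) * y⁻¹ =
      y * c * y⁻¹ * v * (y * c * y⁻¹)⁻¹ * v⁻¹ by group] at h1
  set T := (P : Subgroup X) ⊓ N with hT
  obtain ⟨S⟩ := (inferInstance : Nonempty (Sylow p E))
  set SG := (S : Subgroup E).map E.subtype with hSG
  obtain ⟨l, hlN, hl⟩ := exists_conj_le (Q := T) inf_le_right (P.2.to_le inf_le_left) hVf (R := SG)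
    ((Subgroup.map_subtype_le _).trans fun y hy => hy.1) (S.2.map _)
  set R := T ⊓ E
  have hlR : cm l SG ≤ R := by
    refine le_inf hl ?_
    rintro _ ⟨q, hq, rfl⟩
    exact hEn l hlN q (Subgroup.map_subtype_le _ hq)
  have hRidx : ¬ p ∣ R.relIndex E := by
    intro h
    refine S.not_dvd_index ?_
    have h2 : SG.relIndex E = (S : Subgroup E).index := by
      rw [hSG, Subgroup.relIndex, Subgroup.subgroupOf, Subgroup.comap_map_eq_self_of_injective E.subtype_injective]
    have hlE : cm l E = E := Subgroup.eq_of_le_of_card_ge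
      (Local.map_conj_le fun y hy => hEn l hlN y hy) (card_cm l E).ge
    have h3 : (cm l SG).relIndex E = SG.relIndex E := by
      conv_lhs => rw [← hlE]
      exact Subgroup.relIndex_map_map_of_injective _ _ (MulAut.conj l).injective
    rw [← h2, ← h3]
    exact h.trans (Subgroup.relIndex_dvd_of_le_left _ hlR)
  set Cs := (Subgroup.centralizer (V : Set X)).subgroupOf E
  haveI : Cs.Normal := ⟨fun c hc y => by
    rw [Subgroup.mem_subgroupOf] at hc ⊢
    intro v hv
    have h1 := hc _ (hnv (N.inv_mem y.2.1) v hv)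
    calc v * ((y : X) * c * (y : X)⁻¹) = (y : X) * (((y : X)⁻¹ * v * (y : X)⁻¹⁻¹) * c) * (y : X)⁻¹ := by group
      _ = (y : X) * ((c : X) * ((y : X)⁻¹ * v * (y : X)⁻¹⁻¹)) * (y : X)⁻¹ := by rw [h1]
      _ = (y : X) * c * (y : X)⁻¹ * v := by group⟩
  obtain ⟨k, hk⟩ := (P.2.to_le hV).exists_card_eq
  have hres : pResidual p E ≤ Cs := by
    refine pResidual_le fun c hc => ?_
    rw [Subgroup.mem_subgroupOf]
    intro v hv
    set d := (c : X) * v * (c : X)⁻¹ * v⁻¹ with hd
    have hdQ : d ∈ Q := c.2.2 v hv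
    have hfix : (c : X) * d * (c : X)⁻¹ = d := by
      rw [← hC (c : X) (by rwa [Subgroup.orderOf_coe]) d hdQ, mul_inv_cancel_right]
    have hpow : ∀ n : ℕ, (c : X) ^ n * v * ((c : X) ^ n)⁻¹ = d ^ n * v := by
      intro n
      induction n with
      | zero => simp
      | succ n ih =>
        calc (c : X) ^ (n + 1) * v * ((c : X) ^ (n + 1))⁻¹
            = (c : X) * ((c : X) ^ n * v * ((c : X) ^ n)⁻¹) * (c : X)⁻¹ := by rw [pow_succ']; group
          _ = ((c : X) * d ^ n * (c : X)⁻¹) * ((c : X) * v * (c : X)⁻¹ * v⁻¹) * v := by rw [ih]; group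
          _ = d ^ (n + 1) * v := by rw [← conj_pow, hfix, ← hd, pow_succ]
    have h1 := hpow (orderOf c)
    rw [← Subgroup.coe_pow, pow_orderOf_eq_one, Subgroup.coe_one, one_mul, inv_one, mul_one, eq_comm,
      mul_eq_right] at h1
    have h2 := pow_gcd_eq_one.mpr ⟨h1, (orderOf_dvd_iff_pow_eq_one.1 (hk ▸ Subgroup.orderOf_dvd_natCard V (hQ hdQ)) :
      d ^ p ^ k = 1)⟩
    rw [(hc.pow_right k : (orderOf c).Coprime (p ^ k)), pow_one, hd, mul_inv_eq_one, mul_inv_eq_iff_eq_mul] at h2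
    exact h2.symm
  have hsup := sylow_sup_eq_top_of_pResidual_le
    (((P.2.to_le (inf_le_left.trans inf_le_left) : IsPGroup p R)).of_equiv
      (Subgroup.subgroupOfEquivOfLe (inf_le_right : R ≤ E)).symm |>.toSylow hRidx) hres
  obtain ⟨s, hs, c, hc, hsc⟩ := Subgroup.mem_sup_of_normal_left.1 (hsup ▸ Subgroup.mem_top (⟨e, he, hes⟩ : E))
  have hcR : (c : X) ∈ R := hc
  refine ⟨c, hcR.1, fun v hv => ?_⟩
  have he' : e = (s : X) * (c : X) := (congrArg Subtype.val hsc).symm
  have h4 : (c : X) * v * (c : X)⁻¹ ∈ V := hnv hcR.1.2 v hv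
  have h5 := (Subgroup.mem_subgroupOf.1 hs) _ h4
  calc e * v * e⁻¹ = (s : X) * ((c : X) * v * (c : X)⁻¹) * (s : X)⁻¹ := by rw [he']; group
    _ = (c : X) * v * (c : X)⁻¹ := by rw [← h5, mul_inv_cancel_right]

/-- Strongly closed subgroups map to strongly closed subgroups modulo a normal `p'`-subgroup. -/
theorem isStronglyClosed_map_quotient (T : Sylow p X) (O : Subgroup X) [O.Normal] (hO : (Nat.card O).Coprime p)
    {D : Subgroup X} (hD : IsStronglyClosed D (T : Subgroup X)) :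
    IsStronglyClosed (D.map (QuotientGroup.mk' O)) ((T : Subgroup X).map (QuotientGroup.mk' O)) := by
  refine ⟨Subgroup.map_mono hD.1, ?_⟩
  rintro _ ⟨x, hx, rfl⟩ γ ⟨t, ht, hte⟩
  obtain ⟨g, rfl⟩ := QuotientGroup.mk'_surjective O γ
  set M := (T : Subgroup X) ⊔ O
  have hgx : g * x * g⁻¹ ∈ M := by
    rw [show g * x * g⁻¹ = t * (t⁻¹ * (g * x * g⁻¹)) by group]
    refine M.mul_mem (Subgroup.mem_sup_left ht) (Subgroup.mem_sup_right (QuotientGroup.eq.1 ?_))
    show QuotientGroup.mk' O t = QuotientGroup.mk' O (g * x * g⁻¹)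
    rw [map_mul, map_mul, map_inv]; exact hte
  obtain ⟨w, hw, hwx⟩ := exists_conj_le (Q := (T : Subgroup X)) le_sup_left T.2
    (fun h => T.not_dvd_index (h.trans (Subgroup.relIndex_dvd_index_of_le le_sup_left)))
    (R := Subgroup.zpowers (g * x * g⁻¹)) (Subgroup.zpowers_le.2 hgx) (by
      have h1 := ((T.2.to_le hD.1).to_le (Subgroup.zpowers_le.2 hx)).map (MulAut.conj g).toMonoidHom
      rwa [MonoidHom.map_zpowers] at h1)
  have h3 : w * (g * x * g⁻¹) * w⁻¹ ∈ (T : Subgroup X) := hwx (conj_mem_cm (Subgroup.mem_zpowers _))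
  obtain ⟨z, hz, o, ho, rfl⟩ := Subgroup.mem_sup_of_normal_right.1 hw
  have h6 : o * (g * x * g⁻¹) * o⁻¹ ∈ D := by
    have h7 := hD.2 x hx (o * g) (by
      rw [show o * g * x * (o * g)⁻¹ = z⁻¹ * (z * o * (g * x * g⁻¹) * (z * o)⁻¹) * z by group]
      exact mul_mem (mul_mem (inv_mem hz) h3) hz)
    rwa [show o * g * x * (o * g)⁻¹ = o * (g * x * g⁻¹) * o⁻¹ by group] at h7
  refine ⟨_, h6, ?_⟩
  have hπo : QuotientGroup.mk' O o = 1 := (QuotientGroup.eq_one_iff o).2 ho
  rw [map_mul, map_mul, map_mul, map_mul, map_inv, map_inv, hπo, inv_one, one_mul, mul_one]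

end Basics

variable [Fact p.Prime] (𝔚 : Set (∀ (Q : Type u) [Group Q], Subgroup Q)) (full : Prop)

/-- Control in `X` relative to the subgroup `D` of the Sylow subgroup `T`. -/
def Ctrl {X : Type u} [Group X] (T : Sylow p X) (D : Subgroup X) : Prop :=
  ∀ (A : Subgroup X) (g : X), A ≤ (T : Subgroup X) → cm g A ≤ (T : Subgroup X) →
    Chain (T : Subgroup X) (steps (famAt 𝔚 D) (T : Subgroup X)) A g

/-- Control in the constrained sections. -/
def Base (p : ℕ) [Fact p.Prime] (𝔚 : Set (∀ (Q : Type u) [Group Q], Subgroup Q)) (full : Prop)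
    (X : Type u) [Group X] : Prop :=
  ∀ (Y : Type u) [Group Y] [Finite Y], Involves Y X →
    Subgroup.centralizer (pCore p Y : Set Y) ≤ pCore p Y →
    ∀ (T : Sylow p Y) (D : Subgroup Y), IsStronglyClosed D (T : Subgroup Y) → (full → D = (T : Subgroup Y)) →
      Ctrl 𝔚 T D

theorem ctrl_of_base (h𝔚 : ∀ W ∈ 𝔚, IsCharPFunctor p W) {X : Type u} [Group X] [Finite X]
    (hbase : Base p 𝔚 full X) (T : Sylow p X) (D : Subgroup X) (hD : IsStronglyClosed D (T : Subgroup X))
    (hfull : full → D = (T : Subgroup X)) : Ctrl 𝔚 T D := by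
  induction hn : Nat.card X using Nat.strong_induction_on generalizing X with
  | h n ih =>
  subst hn
  intro A g hA hg
  set P : Subgroup X := (T : Subgroup X) with hP
  have hDT : D ⊓ P = D := inf_eq_left.2 hD.1
  by_cases htriv : ∃ W ∈ 𝔚, Subgroup.normalizer (inducedFunctor W D : Set X) = ⊤
  · obtain ⟨W, hW, hWt⟩ := htriv
    exact .single (mem_steps_famAt.2 ⟨W, hW, by rw [hDT, hWt]; trivial⟩) hA hg
  push Not at htriv
  have hPn : ∀ W ∈ 𝔚, P ≤ Subgroup.normalizer (inducedFunctor W D : Set X) := fun W hW =>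
    (le_normalizer_of_closed hD).trans (normalizer_le_normalizer_induced (h𝔚 W hW) (T.2.to_le hD.1))
  -- proper subgroups
  have sub : ∀ (L T' : Subgroup X), L ≠ ⊤ → T' ≤ L → T' ≤ P → ¬ p ∣ T'.relIndex L → (full → D ⊓ T' = T') →
      (∀ x ∈ D, ∀ y ∈ L, y * x * y⁻¹ ∈ T' → y * x * y⁻¹ ∈ D) →
      ∀ B : Subgroup X, ∀ y ∈ L, B ≤ T' → cm y B ≤ T' →
        Chain T' ((L : Set X) ∩ steps (famAt 𝔚 D) T') B y := by
    intro L T' hL hT'L hT'P hidx hf hcl B y hy hB hyB
    set Ts : Sylow p L := ((T.2.to_le hT'P).of_equiv (Subgroup.subgroupOfEquivOfLe hT'L).symm).toSylow hidx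
    have hcard : Nat.card L < Nat.card X :=
      lt_of_le_of_ne (Nat.le_of_dvd Nat.card_pos L.card_subgroup_dvd_card) fun h => hL (Subgroup.eq_top_of_card_eq L h)
    have hc := ih _ hcard (X := L) (fun Y _ _ hY => hbase Y (involves_of_injective L.subtype L.subtype_injective hY)) Ts
      ((D ⊓ T').subgroupOf L) ⟨fun x hx => hx.2, fun x hx z hz => ⟨hcl x hx.1 z z.2 hz, hz⟩⟩
      (fun h => congrArg (fun S : Subgroup X => S.subgroupOf L) (hf h)) rfl (B.subgroupOf L) ⟨y, hy⟩
      (fun b hb => hB hb) (by rintro _ ⟨b, hb, rfl⟩; exact hyB ⟨(b : X), hb, rfl⟩)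
    have h1 := hc.map (S' := (L : Set X) ∩ steps (famAt 𝔚 D) T') L.subtype fun m hm => by
      obtain ⟨W, hW, hmW⟩ := mem_steps_famAt.1 hm
      refine ⟨m.2, mem_steps_famAt.2 ⟨W, hW, ?_⟩⟩
      have e : (inducedFunctor W ((D ⊓ T').subgroupOf L)).map L.subtype = inducedFunctor W (D ⊓ T') := by
        rw [← inducedFunctor_map (h𝔚 W hW) L.subtype
          ((T.2.to_le (inf_le_right.trans hT'P)).of_equiv (Subgroup.subgroupOfEquivOfLe (inf_le_right.trans hT'L)).symm)
          L.subtype_injective.injOn, Subgroup.map_subgroupOf_eq_of_le (inf_le_right.trans hT'L)]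
      rw [← e]
      refine Subgroup.le_normalizer_map L.subtype ⟨m, ?_, rfl⟩
      have e2 : (D ⊓ T').subgroupOf L ⊓ (Ts : Subgroup L) = (D ⊓ T').subgroupOf L :=
        inf_eq_left.2 fun x hx => hx.2
      rwa [e2] at hmW
    rwa [show (Ts : Subgroup L) = T'.subgroupOf L from rfl, Subgroup.map_subgroupOf_eq_of_le hT'L,
      Subgroup.map_subgroupOf_eq_of_le (hB.trans hT'L)] at h1
  -- subgroups containing `T`
  have inM : ∀ M : Subgroup X, M ≠ ⊤ → P ≤ M → ∀ (B : Subgroup X), ∀ y ∈ M, B ≤ P → cm y B ≤ P →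
      Chain P (steps (famAt 𝔚 D) P) B y := by
    intro M hM hPM B y hy hB hyB
    exact (sub M P hM hPM le_rfl (fun h => T.not_dvd_index (h.trans (Subgroup.relIndex_dvd_index_of_le hPM)))
      (fun h => by rw [hfull h, inf_idem]) (fun x hx z _ hz => hD.2 x hx z hz) B y hy hB hyB).bind le_rfl
        fun m hm B' _ hB' hmB' => .single hm.2 hB' hmB'
  by_cases hO : pPrimeCore p X ≠ ⊥
  · -- lift from the quotient
    set O := pPrimeCore p X with hOdef
    set π := QuotientGroup.mk' O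
    have hπs : Function.Surjective π := QuotientGroup.mk'_surjective O
    have hdis : P ⊓ O = ⊥ := by
      obtain ⟨k, hk⟩ := IsPGroup.iff_card.1 T.2
      refine Subgroup.inf_eq_bot_of_coprime ?_
      rw [hk]
      exact ((card_pPrimeCore_coprime p (G := X)).pow_right k).symm
    have hinj : Set.InjOn π (P : Set X) := fun s hs t ht hst => by
      have h1 : s⁻¹ * t ∈ P ⊓ O := ⟨P.mul_mem (P.inv_mem hs) ht, QuotientGroup.eq.1 hst⟩
      rw [hdis, Subgroup.mem_bot, inv_mul_eq_one] at h1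
      exact h1
    set Tb : Sylow p (X ⧸ O) := T.mapSurjective hπs
    have hlt : Nat.card (X ⧸ O) < Nat.card X := by
      rw [Subgroup.card_eq_card_quotient_mul_card_subgroup O]
      exact lt_mul_of_one_lt_right Nat.card_pos ((Subgroup.one_lt_card_iff_ne_bot O).2 hO)
    have hc := ih _ hlt (X := X ⧸ O) (fun Y _ _ hY => hbase Y (involves_of_quotientHom π hπs hY)) Tb (D.map π)
      (isStronglyClosed_map_quotient T O (card_pPrimeCore_coprime p) hD)
      (fun h => congrArg (fun S : Subgroup X => S.map π) (hfull h)) rfl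
      (A.map π) (π g) (Subgroup.map_mono hA) (by rw [← map_cm]; exact Subgroup.map_mono hg)
    suffices key : ∀ {Ab : Subgroup (X ⧸ O)} {gb : X ⧸ O},
        Chain (Tb : Subgroup (X ⧸ O)) (steps (famAt 𝔚 (D.map π)) (Tb : Subgroup (X ⧸ O))) Ab gb →
        ∀ (A : Subgroup X) (g : X), A ≤ P → cm g A ≤ P → A.map π = Ab → π g = gb →
          Chain P (steps (famAt 𝔚 D) P) A g from key hc A g hA hg rfl rfl
    intro Ab gb hch
    induction hch with
    | @refl Ab gb _ hgb =>
      intro A g hA hg eA eg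
      refine .refl hA fun a ha => hinj (hg (conj_mem_cm ha)) (hA ha) ?_
      rw [map_mul, map_mul, map_inv, eg]
      exact hgb _ (eA ▸ Subgroup.mem_map_of_mem π ha)
    | @step Ab nb gb _ hnb hrest ihc =>
      intro A g hA hg eA eg
      obtain ⟨W, hW, hnW⟩ := mem_steps_famAt.1 hnb
      set Z := inducedFunctor W D with hZ
      have hZP : Z ≤ P := (inducedFunctor_le W D).trans hD.1
      have hnW' : nb ∈ Subgroup.normalizer (Z.map π : Set (X ⧸ O)) := by
        rw [hZ, ← inducedFunctor_map (h𝔚 W hW) π (T.2.to_le hD.1) (hinj.mono hD.1)]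
        have e : D.map π ⊓ (Tb : Subgroup (X ⧸ O)) = D.map π := inf_eq_left.2 (Subgroup.map_mono hD.1)
        rwa [e] at hnW
      obtain ⟨l, rfl⟩ := hπs nb
      -- move `l` into the normalizer of `Z`
      have hlZ : cm l Z ≤ (Z ⊔ O) := by
        rintro _ ⟨z, hz, rfl⟩
        obtain ⟨z', hz', e'⟩ := (Subgroup.mem_normalizer_iff.1 hnW' (π z)).1 ⟨z, hz, rfl⟩
        show l * z * l⁻¹ ∈ Z ⊔ O
        rw [show l * z * l⁻¹ = z' * (z'⁻¹ * (l * z * l⁻¹)) by group]
        refine mul_mem (Subgroup.mem_sup_left hz') (Subgroup.mem_sup_right (QuotientGroup.eq.1 ?_))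
        show π z' = π (l * z * l⁻¹)
        rw [map_mul, map_mul, map_inv]; exact e'
      have hidx : ¬ p ∣ Z.relIndex (Z ⊔ O) := by
        intro h
        have e1 : (⊥ : Subgroup X).relIndex Z * Z.relIndex (Z ⊔ O) = (⊥ : Subgroup X).relIndex (Z ⊔ O) :=
          Subgroup.relIndex_mul_relIndex _ _ _ bot_le le_sup_left
        have e2 : (⊥ : Subgroup X).relIndex O * O.relIndex (Z ⊔ O) = (⊥ : Subgroup X).relIndex (Z ⊔ O) :=
          Subgroup.relIndex_mul_relIndex _ _ _ bot_le le_sup_right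
        rw [Subgroup.relIndex_sup_right, ← e1, Subgroup.relIndex_bot_left, Subgroup.relIndex_bot_left] at e2
        have h2 : Z.relIndex (Z ⊔ O) ∣ Nat.card O := by
          refine (Nat.mul_dvd_mul_iff_left (Nat.card_pos (α := Z))).1 ?_
          rw [← e2, mul_comm (Nat.card Z)]
          exact Nat.mul_dvd_mul_left _ (Subgroup.relIndex_dvd_card _ _)
        exact (Fact.out : p.Prime).coprime_iff_not_dvd.1 (card_pPrimeCore_coprime p (G := X)).symm (h.trans h2)
      obtain ⟨w, hw, hwl⟩ := exists_conj_le (Q := Z) le_sup_left (T.2.to_le hZP) hidx hlZ ((T.2.to_le hZP).map _)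
      obtain ⟨z, hz, o, ho, rfl⟩ := Subgroup.mem_sup_of_normal_right.1 hw
      have hol : o * l ∈ Subgroup.normalizer (Z : Set X) := by
        have h1 : z * (o * l) ∈ Subgroup.normalizer (Z : Set X) :=
          Local.mem_normalizer_of_map_conj_eq (Subgroup.eq_of_le_of_card_ge (by
            show cm (z * (o * l)) Z ≤ Z
            rw [← mul_assoc, ← cm_cm]; exact hwl) (card_cm _ Z).ge)
        rw [show o * l = z⁻¹ * (z * (o * l)) by group]
        exact mul_mem (inv_mem (Subgroup.le_normalizer hz)) h1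
      have hπo : π (o * l) = π l := by
        rw [map_mul, show π o = 1 from (QuotientGroup.eq_one_iff o).2 ho, one_mul]
      have hB : cm (o * l) A ≤ (P ⊔ O) ⊓ Subgroup.normalizer (Z : Set X) := by
        rintro _ ⟨a, ha, rfl⟩
        refine Subgroup.mem_inf.2 ⟨?_, mul_mem (mul_mem hol (hPn W hW (hA ha))) (inv_mem hol)⟩
        obtain ⟨t, ht, e'⟩ := hrest.le (eA ▸ conj_mem_cm (g := π l) (Subgroup.mem_map_of_mem π ha))
        show o * l * a * (o * l)⁻¹ ∈ P ⊔ O
        rw [show o * l * a * (o * l)⁻¹ = t * (t⁻¹ * (o * l * a * (o * l)⁻¹)) by group]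
        refine mul_mem (Subgroup.mem_sup_left ht) (Subgroup.mem_sup_right (QuotientGroup.eq.1 ?_))
        show π t = π (o * l * a * (o * l)⁻¹)
        rw [map_mul, map_mul, map_inv, hπo]; exact e'
      obtain ⟨w, ⟨hw', hwN⟩, hwB⟩ := exists_conj_le (Q := P) (le_inf le_sup_left (hPn W hW)) T.2
        (fun h => T.not_dvd_index (h.trans (Subgroup.relIndex_dvd_index_of_le (le_inf le_sup_left (hPn W hW)))))
        hB ((T.2.to_le hA).map _)
      obtain ⟨t, ht, d, hd, rfl⟩ := Subgroup.mem_sup_of_normal_right.1 hw'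
      set n := d * (o * l) with hn'
      have hdN : d ∈ Subgroup.normalizer (Z : Set X) := by
        rw [show d = t⁻¹ * (t * d) by group]
        exact mul_mem (inv_mem (hPn W hW ht)) hwN
      have hnA : cm n A ≤ P := by
        rintro _ ⟨a, ha, rfl⟩
        have h3 := hwB (conj_mem_cm (g := t * d) (conj_mem_cm (g := o * l) ha))
        show d * (o * l) * a * (d * (o * l))⁻¹ ∈ P
        rw [show d * (o * l) * a * (d * (o * l))⁻¹ = t⁻¹ * (t * d * (o * l * a * (o * l)⁻¹) * (t * d)⁻¹) * t by group]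
        exact mul_mem (mul_mem (inv_mem ht) h3) ht
      have hπn : π n = π l := by
        rw [hn', map_mul, show π d = 1 from (QuotientGroup.eq_one_iff d).2 hd, one_mul, hπo]
      rw [show g = g * n⁻¹ * n by group]
      refine .step hA (mem_steps_famAt.2 ⟨W, hW, by rw [hDT]; exact mul_mem hdN hol⟩) (ihc _ _ hnA ?_ ?_ ?_)
      · rw [cm_cm, inv_mul_cancel_right]; exact hg
      · rw [map_cm, hπn, eA]
      · rw [map_mul, map_inv, eg, hπn, mul_inv_cancel_right]
  push Not at hO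
  set Q := pCore p X with hQ
  by_cases hcon : Subgroup.centralizer (Q : Set X) ≤ Q
  · exact hbase X involves_self hcon T D hD hfull A g hA hg
  by_cases hQ0 : Q = ⊥
  · -- all local subgroups are proper
    refine chain_of_local T (famAt 𝔚 D) (Full p P) (fun U hU => exists_full T hU) (fun _ _ h => h) ?_ ?_ hA hg
    · rintro _ ⟨W, hW, rfl⟩ S hS hZS -
      have hDp : IsPGroup p ↥(D ⊓ S) := T.2.to_le (inf_le_left.trans hD.1)
      have hD0 : D ≠ ⊥ := by
        intro h
        refine htriv W hW ?_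
        rw [le_bot_iff.1 ((inducedFunctor_le W D).trans h.le)]
        exact Subgroup.normalizer_eq_top _
      have hDS : D ⊓ S ≠ ⊥ := by
        haveI : (D.subgroupOf P).Normal := (Subgroup.normal_subgroupOf_iff hD.1).2 fun x y hx hy =>
          (Subgroup.mem_normalizer_iff.1 (le_normalizer_of_closed hD hy) x).1 hx
        haveI : Group.IsNilpotent P := T.2.isNilpotent
        intro hb
        refine inf_center_ne_bot_of_nilpotent (N := D.subgroupOf P)
          (by rw [Ne, Subgroup.subgroupOf_eq_bot, disjoint_iff, hDT]; exact hD0) ?_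
        rw [eq_bot_iff]
        intro z hz
        have hz' := Subgroup.mem_inf.1 hz
        have h0 : (z : X) ∈ D ⊓ S :=
          ⟨hz'.1, hZS (show (z : X) ∈ P ⊓ Subgroup.centralizer (P : Set X) from
            ⟨z.2, fun y hy => congrArg Subtype.val (Subgroup.mem_center_iff.1 hz'.2 (⟨y, hy⟩ : P))⟩)⟩
        have h1 : (z : X) ∈ (⊥ : Subgroup X) := hb ▸ h0
        exact Subgroup.mem_bot.2 (Subtype.ext (Subgroup.mem_bot.1 h1))
      exact ⟨(inducedFunctor_le W _).trans inf_le_right, inducedFunctor_ne_bot (h𝔚 W hW) hDp hDS,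
        ((inf_le_inf_right _ (le_normalizer_of_closed hD)).trans Subgroup.inf_normalizer_le_normalizer_inf).trans
          (normalizer_le_normalizer_induced (h𝔚 W hW) hDp)⟩
    · intro U hU hU0 hUf B hB y hy hyB
      refine sub _ _ ?_ inf_le_right inf_le_left hUf (fun h => by rw [hfull h, ← inf_assoc, inf_idem])
        (fun x hx z _ hz => hD.2 x hx z hz.1) B y hy hB hyB
      intro htop
      haveI : U.Normal := Subgroup.normalizer_eq_top_iff.1 htop
      exact hU0 (le_bot_iff.1 (hQ0 ▸ le_pCore (T.2.to_le hU)))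
  -- `O_p ≠ 1` and not constrained
  set C₀ := Subgroup.centralizer (Q : Set X) with hC₀
  haveI : C₀.Normal := Subgroup.normal_centralizer ..
  set M := Subgroup.normalizer ((P ⊓ C₀ : Subgroup X) : Set X) with hM
  have hPM : P ≤ M := (le_inf Subgroup.le_normalizer (by rw [Subgroup.normalizer_eq_top]; exact le_top)).trans
    Subgroup.inf_normalizer_le_normalizer_inf
  have hQP : Q ≤ P := pCore_le_sylow T
  have hMtop : M ≠ ⊤ := by
    intro htop
    haveI : (P ⊓ C₀).Normal := Subgroup.normalizer_eq_top_iff.1 htop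
    have hle : P ⊓ C₀ ≤ Q := le_pCore (T.2.to_le inf_le_left)
    apply hcon
    set S0 := sylowInfNormal T C₀
    have hcent : Subgroup.normalizer ((S0 : Subgroup C₀) : Set C₀) ≤ Subgroup.centralizer ((S0 : Subgroup C₀) : Set C₀) :=
      fun c _ s hs => Subtype.ext (c.2 _ (hle ⟨hs, s.2⟩))
    obtain ⟨P', K, hK, hKP⟩ := hasNormalPComplement_of_normalizer_le_centralizer S0 hcent
    have hKc : (Nat.card K).Coprime p := by
      refine ((Fact.out : p.Prime).coprime_iff_not_dvd.2 fun h => ?_).symm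
      exact P'.not_dvd_index (hKP.index_eq_card ▸ h)
    haveI := hK
    have hKb : K = ⊥ := by
      have h1 : (pPrimeCore p C₀).map C₀.subtype ≤ ⊥ := hO ▸ map_pPrimeCore_le p C₀
      exact le_bot_iff.1 fun k hk => by
        have h2 := h1 ⟨k, le_pPrimeCore hKc hk, rfl⟩
        exact Subgroup.mem_bot.2 (Subtype.ext (Subgroup.mem_bot.1 h2))
    rw [hKb, Subgroup.isComplement'_bot_left] at hKP
    intro c hc
    have h3 : (P' : Subgroup C₀) = (S0 : Subgroup C₀) := by
      refine (Subgroup.eq_of_le_of_card_ge ?_ (le_of_eq (S0.card_eq_multiplicity.trans P'.card_eq_multiplicity.symm).symm)).symm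
      rw [hKP]; exact le_top
    have h4 : (⟨c, hc⟩ : C₀) ∈ (S0 : Subgroup C₀) := by rw [← h3, hKP]; trivial
    exact hle ⟨h4, hc⟩
  refine chain_of_automizers T _ (steps_inv _ _) (fun V hV hVf big x hx => ?_) hA hg
  have hnv : ∀ v ∈ V, x * v * x⁻¹ ∈ V := fun v hv => (Subgroup.mem_normalizer_iff.1 hx v).1 hv
  have hxV : cm x V = V := Local.map_conj_eq_of_mem_normalizer hx
  by_cases hQV : ¬ Q ≤ V
  · have hlt : V < V ⊔ Q := lt_of_le_of_ne le_sup_left fun h => hQV (h ▸ le_sup_right)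
    refine (big (V ⊔ Q) x ?_ (sup_le hV hQP) ?_).mono le_sup_left
    · exact lt_of_le_of_ne (Subgroup.card_le_of_le hlt.le) fun h => hlt.ne (Subgroup.eq_of_le_of_card_ge hlt.le h.ge)
    · rw [cm, Subgroup.map_sup]
      exact sup_le (hxV.le.trans hV) ((Local.map_conj_le fun q hq =>
        (inferInstance : Q.Normal).conj_mem q hq x).trans hQP)
  push Not at hQV
  have hfrat : C₀ ⊔ M = ⊤ := by
    have h := Sylow.normalizer_sup_eq_top (sylowInfNormal T C₀)
    rw [coe_sylowInfNormal, Subgroup.subgroupOf_map_subtype, sup_comm] at h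
    exact h
  by_cases hK : C₀ ⊔ P ≠ ⊤
  · -- factor `x`
    obtain ⟨c, hc, m, hm, rfl⟩ := Subgroup.mem_sup_of_normal_left.1 (hfrat ▸ Subgroup.mem_top x)
    have hB : cm m V ≤ (P ⊔ C₀) ⊓ M := by
      rintro _ ⟨v, hv, rfl⟩
      refine Subgroup.mem_inf.2 ⟨?_, mul_mem (mul_mem hm (hPM (hV hv))) (inv_mem hm)⟩
      show m * v * m⁻¹ ∈ P ⊔ C₀
      rw [show m * v * m⁻¹ = c⁻¹ * (c * m * v * (c * m)⁻¹) * c by group]
      exact mul_mem (mul_mem (Subgroup.mem_sup_right (inv_mem hc)) (Subgroup.mem_sup_left (hV (hnv v hv))))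
        (Subgroup.mem_sup_right hc)
    obtain ⟨w, ⟨hw', hwM⟩, hwB⟩ := exists_conj_le (Q := P) (le_inf le_sup_left hPM) T.2
      (fun h => T.not_dvd_index (h.trans (Subgroup.relIndex_dvd_index_of_le (le_inf le_sup_left hPM))))
      hB ((T.2.to_le hV).map _)
    rw [cm_cm] at hwB
    have h1 := inM M hMtop hPM V (w * m) (mul_mem hwM hm) hV hwB
    have h2 := inM (C₀ ⊔ P) hK le_sup_right (cm (w * m) V) (c * w⁻¹)
      (mul_mem (Subgroup.mem_sup_left hc) (inv_mem (sup_comm P C₀ ▸ hw'))) hwB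
      (by rw [cm_cm, show c * w⁻¹ * (w * m) = c * m by group, hxV]; exact hV)
    have h3 := h1.trans h2
    rwa [show c * w⁻¹ * (w * m) = c * m by group] at h3
  push Not at hK
  -- `X = C(Q) T`: work modulo `Q`
  set π := QuotientGroup.mk' Q
  have hπs : Function.Surjective π := QuotientGroup.mk'_surjective Q
  set Tb : Sylow p (X ⧸ Q) := T.mapSurjective hπs
  have hlt : Nat.card (X ⧸ Q) < Nat.card X := by
    rw [Subgroup.card_eq_card_quotient_mul_card_subgroup Q]
    exact lt_mul_of_one_lt_right Nat.card_pos ((Subgroup.one_lt_card_iff_ne_bot Q).2 hQ0)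
  have hmemP : ∀ {y : X}, π y ∈ P.map π → y ∈ P := by
    rintro y ⟨t, ht, e⟩
    have h1 : t⁻¹ * y ∈ Q := QuotientGroup.eq.1 e
    have h2 := mul_mem ht (hQP h1)
    rwa [mul_inv_cancel_left] at h2
  have hDb : IsStronglyClosed (D.map π) (Tb : Subgroup (X ⧸ Q)) := by
    refine ⟨Subgroup.map_mono hD.1, ?_⟩
    rintro _ ⟨d, hd, rfl⟩ γ hγ
    obtain ⟨y, rfl⟩ := hπs γ
    exact ⟨y * d * y⁻¹, hD.2 d hd y (hmemP (by rw [map_mul, map_mul, map_inv]; exact hγ)), by simp⟩
  have hc := ih _ hlt (X := X ⧸ Q) (fun Y _ _ hY => hbase Y (involves_of_quotientHom π hπs hY)) Tb (D.map π) hDb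
    (fun h => congrArg (fun S : Subgroup X => S.map π) (hfull h)) rfl
    (V.map π) (π x) (Subgroup.map_mono hV) (by rw [← map_cm, hxV]; exact Subgroup.map_mono hV)
  -- lift the chain
  suffices key : ∀ {Ab : Subgroup (X ⧸ Q)} {gb : X ⧸ Q},
      Chain (Tb : Subgroup (X ⧸ Q)) (steps (famAt 𝔚 (D.map π)) (Tb : Subgroup (X ⧸ Q))) Ab gb →
      ∀ B : Subgroup X, Q ≤ B → B ≤ P → B.map π = Ab →
        ∃ y, π y * (π y)⁻¹ = 1 ∧ (∀ b ∈ B, π (y * b * y⁻¹) = gb * π b * gb⁻¹) ∧
          Chain P (steps (famAt 𝔚 D) P) B y by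
    obtain ⟨y, -, hy, hch⟩ := key hc V hQV hV rfl
    have hyV : cm y V = V := by
      refine Subgroup.eq_of_le_of_card_ge (Local.map_conj_le fun v hv => ?_) (card_cm y V).ge
      have h1 := hy v hv
      rw [← map_inv, ← map_mul, ← map_mul] at h1
      have h2 : (x * v * x⁻¹)⁻¹ * (y * v * y⁻¹) ∈ Q := QuotientGroup.eq.1 h1.symm
      have h3 := V.mul_mem (hnv v hv) (hQV h2)
      rwa [mul_inv_cancel_left] at h3
    have hyN : y ∈ Subgroup.normalizer (V : Set X) := Local.mem_normalizer_of_map_conj_eq hyV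
    have hC : ∀ z : X, (orderOf z).Coprime p → z ∈ C₀ := by
      intro z hz
      have hres : IsPGroup p (X ⧸ C₀) := by
        refine T.2.of_surjective ((QuotientGroup.mk' C₀).comp P.subtype) fun q => ?_
        obtain ⟨q, rfl⟩ := QuotientGroup.mk'_surjective C₀ q
        obtain ⟨c, hc, t, ht, rfl⟩ := Subgroup.mem_sup_of_normal_left.1 (hK ▸ Subgroup.mem_top q)
        refine ⟨⟨t, ht⟩, ?_⟩
        show QuotientGroup.mk' C₀ t = QuotientGroup.mk' C₀ (c * t)
        rw [map_mul, show QuotientGroup.mk' C₀ c = 1 from (QuotientGroup.eq_one_iff c).2 hc, one_mul]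
      obtain ⟨k, hk⟩ := hres (QuotientGroup.mk' C₀ z)
      exact (QuotientGroup.eq_one_iff z).1 (orderOf_eq_one_iff.1 (Nat.eq_one_of_dvd_coprimes (hz.pow_right k)
        (orderOf_map_dvd (QuotientGroup.mk' C₀) z) (orderOf_dvd_of_pow_eq_one hk)))
    obtain ⟨s, hs, hse⟩ := exists_agree_stabilizer T hV hVf hQV hC (e := y⁻¹ * x)
      (mul_mem (inv_mem hyN) hx) fun v hv => by
        refine (QuotientGroup.eq_one_iff _).1 ?_
        show π (y⁻¹ * x * v * (y⁻¹ * x)⁻¹ * v⁻¹) = 1
        have h1 := hy v hv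
        calc π (y⁻¹ * x * v * (y⁻¹ * x)⁻¹ * v⁻¹)
            = (π y)⁻¹ * (π x * π v * (π x)⁻¹) * π y * (π v)⁻¹ := by simp [mul_assoc]
          _ = (π y)⁻¹ * π (y * v * y⁻¹) * π y * (π v)⁻¹ := by rw [h1]
          _ = 1 := by simp [mul_assoc]
    have hsV : cm s V = V := Local.map_conj_eq_of_mem_normalizer hs.2
    have hsingle : Chain P (steps (famAt 𝔚 D) P) V s := by
      by_cases h : ∃ W, W ∈ 𝔚
      · obtain ⟨W, hW⟩ := h
        exact .single (mem_steps_famAt.2 ⟨W, hW, by rw [hDT]; exact hPn W hW hs.1⟩) hV (hsV.le.trans hV)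
      · push Not at h
        refine .refl hV fun v hv => ?_
        have hcP : Subgroup.centralizer (pCore p P : Set P) ≤ pCore p P :=
          le_top.trans (le_pCore (N := (⊤ : Subgroup P)) (T.2.of_equiv Subgroup.topEquiv.symm))
        set TP : Sylow p P := (T.2.of_equiv Subgroup.topEquiv.symm).toSylow (by
          rw [Subgroup.index_top]; exact (Fact.out : p.Prime).not_dvd_one)
        have hch := hbase P (involves_of_injective P.subtype P.subtype_injective involves_self) hcP TP ⊤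
          ⟨le_rfl, fun _ _ _ _ => trivial⟩ (fun _ => rfl) (V.subgroupOf P) ⟨s, hs.1⟩ le_top le_top
        obtain ⟨w, hw, hwe⟩ := hch.exists_mem (N := ⊥) (by rintro m ⟨_, ⟨W, hW, rfl⟩, -⟩; exact absurd hW (h W))
        rw [Subgroup.mem_bot.1 hw] at hwe
        simpa using congrArg Subtype.val (hwe ⟨v, hV hv⟩ hv)
    refine ((hsingle.trans (by rw [hsV]; exact hch))).congr fun v hv => ?_
    calc x * v * x⁻¹ = y * (y⁻¹ * x * v * (y⁻¹ * x)⁻¹) * y⁻¹ := by group
      _ = y * (s * v * s⁻¹) * y⁻¹ := by rw [hse v hv]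
      _ = y * s * v * (y * s)⁻¹ := by group
  intro Ab gb hch
  induction hch with
  | @refl Ab gb _ hgb =>
    intro B hQB hB eB
    exact ⟨1, by simp, fun b hb => by
      rw [hgb _ (eB ▸ Subgroup.mem_map_of_mem π hb)]; simp,
      .refl hB fun b _ => by simp⟩
  | @step Ab nb gb _ hnb hrest ihc =>
    intro B hQB hB eB
    obtain ⟨W, hW, hnW⟩ := mem_steps_famAt.1 hnb
    obtain ⟨l, rfl⟩ := hπs nb
    have hlB : cm l B ≤ P := Local.map_conj_le fun b hb => hmemP (by
      rw [map_mul, map_mul, map_inv]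
      exact hrest.le (eB ▸ conj_mem_cm (g := π l) (Subgroup.mem_map_of_mem π hb)))
    have hQl : Q ≤ cm l B := fun q hq => mem_cm.2 (hQB (by
      simpa using (inferInstance : Q.Normal).conj_mem q hq l⁻¹))
    obtain ⟨y, -, hy, hych⟩ := ihc (cm l B) hQl hlB (by rw [map_cm, eB])
    set M₁ := (Subgroup.normalizer (inducedFunctor W (D.map π ⊓ (Tb : Subgroup (X ⧸ Q))) : Set (X ⧸ Q))).comap π
    have hPM₁ : P ≤ M₁ := fun t ht => by
      refine normalizer_le_normalizer_induced (h𝔚 W hW) (Tb.2.to_le inf_le_right) ?_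
      exact Subgroup.inf_normalizer_le_normalizer_inf
        ⟨le_normalizer_of_closed hDb (Subgroup.mem_map_of_mem π ht), Subgroup.le_normalizer (Subgroup.mem_map_of_mem π ht)⟩
    have hM₁ : M₁ ≠ ⊤ := by
      intro htop
      set Zb := inducedFunctor W (D.map π ⊓ (Tb : Subgroup (X ⧸ Q)))
      have hZn : Zb.Normal := Subgroup.normalizer_eq_top_iff.1 (eq_top_iff.2 fun q _ => by
        obtain ⟨q, rfl⟩ := hπs q
        exact (htop.ge (Subgroup.mem_top q) : q ∈ M₁))
      have hZ0 : Zb = ⊥ := by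
        have hcomap : IsPGroup p ↥(Zb.comap π) := (Tb.2.to_le ((inducedFunctor_le W _).trans inf_le_right)).comap_of_ker_isPGroup π
          (by rw [QuotientGroup.ker_mk']; exact isPGroup_pCore p)
        have h1 : Zb.comap π ≤ Q := le_pCore (hN := hZn.comap π) hcomap
        rw [eq_bot_iff]
        intro z hz
        obtain ⟨z, rfl⟩ := hπs z
        exact (QuotientGroup.eq_one_iff z).2 (h1 hz)
      have hD0 : D.map π = ⊥ := by
        by_contra h
        refine inducedFunctor_ne_bot (h𝔚 W hW) (Tb.2.to_le inf_le_right) ?_ hZ0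
        rwa [inf_eq_left.2 (show D.map π ≤ (Tb : Subgroup (X ⧸ Q)) from Subgroup.map_mono hD.1)]
      have hDQ : D ≤ Q := fun d hd => (QuotientGroup.eq_one_iff d).1
        (Subgroup.mem_bot.1 (hD0 ▸ Subgroup.mem_map_of_mem π hd))
      have hDn : Subgroup.normalizer (D : Set X) = ⊤ := eq_top_iff.2 fun y _ =>
        Local.mem_normalizer_of_map_conj_eq (Subgroup.eq_of_le_of_card_ge (Local.map_conj_le fun d hd =>
          hD.2 d hd y (hQP ((inferInstance : Q.Normal).conj_mem d (hDQ hd) y))) (card_cm y D).ge)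
      exact htriv W hW (top_le_iff.1 (hDn.ge.trans (normalizer_le_normalizer_induced (h𝔚 W hW) (T.2.to_le hD.1))))
    refine ⟨y * l, by simp, fun b hb => ?_, (inM M₁ hM₁ hPM₁ B l hnW hB hlB).trans hych⟩
    have h1 := hy _ (conj_mem_cm (g := l) hb)
    calc π (y * l * b * (y * l)⁻¹) = π (y * (l * b * l⁻¹) * y⁻¹) := by simp [mul_assoc]
      _ = gb * π (l * b * l⁻¹) * gb⁻¹ := h1
      _ = gb * π l * π b * (gb * π l)⁻¹ := by simp [mul_assoc]

end CfsgLib.StrongFusion
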