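import Cfsg.Agent.Lib.StrongFusion.Stable
import Cfsg.Agent.Lib.PSolvable

/-!
`p`-stability in the printed form, passing to `G / O_{p'}(G)`, and its consequences for `ZJ`.
-/

set_option autoImplicit false
set_option linter.unusedSectionVars false

namespace CfsgLib.StrongFusion

open CfsgLib Cfsg
open scoped Pointwise commutatorElement

universe u
variable {G : Type u} [Group G] [Finite G] {p : ℕ} [Fact p.Prime]

theorem inf_pPrimeCore_eq_bot {V : Subgroup G} (hV : IsPGroup p V) : V ⊓ pPrimeCore p G = ⊥ := by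
  obtain ⟨k, hk⟩ := IsPGroup.iff_card.1 hV
  refine Subgroup.inf_eq_bot_of_coprime ?_
  rw [hk]
  exact ((card_pPrimeCore_coprime p (G := G)).pow_right k).symm

theorem commutator_bot_of_quotient {V A : Subgroup G} (hV : IsPGroup p V)
    (hA : A ≤ Subgroup.normalizer (V : Set G))
    (h : ⁅⁅V.map (QuotientGroup.mk' (pPrimeCore p G)), A.map (QuotientGroup.mk' (pPrimeCore p G))⁆,
      A.map (QuotientGroup.mk' (pPrimeCore p G))⁆ = ⊥) : ⁅⁅V, A⁆, A⁆ = ⊥ := by
  have h1 : ⁅V, A⁆ ≤ V := by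
    rw [Subgroup.commutator_le]
    intro v hv a ha
    rw [commutatorElement_def, show v * a * v⁻¹ * a⁻¹ = v * (a * v⁻¹ * a⁻¹) by group]
    exact V.mul_mem hv ((Subgroup.mem_normalizer_iff.1 (hA ha) _).1 (V.inv_mem hv))
  rw [eq_bot_iff, ← inf_pPrimeCore_eq_bot hV]
  refine le_inf ((Subgroup.commutator_mono h1 le_rfl).trans h1) fun z hz => ?_
  have h2 : QuotientGroup.mk' (pPrimeCore p G) z ∈ (⊥ : Subgroup (G ⧸ pPrimeCore p G)) := by
    rw [← h, ← Subgroup.map_commutator, ← Subgroup.map_commutator]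
    exact Subgroup.mem_map_of_mem _ hz
  exact (QuotientGroup.eq_one_iff z).1 (Subgroup.mem_bot.1 h2)

/-- Lift a normal `p`-subgroup and a `p`-subgroup acting on it. -/
theorem exists_lift_pair (Vb : Subgroup (G ⧸ pPrimeCore p G)) [Vb.Normal] (hVb : IsPGroup p Vb)
    (Ab : Subgroup (G ⧸ pPrimeCore p G)) (hAb : IsPGroup p Ab) :
    ∃ V A : Subgroup G, IsPGroup p V ∧ IsPGroup p A ∧ A ≤ Subgroup.normalizer (V : Set G) ∧
      V.map (QuotientGroup.mk' (pPrimeCore p G)) = Vb ∧ A.map (QuotientGroup.mk' (pPrimeCore p G)) = Ab ∧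
      ∀ y, ∃ n ∈ Subgroup.normalizer (V : Set G), QuotientGroup.mk' (pPrimeCore p G) n = y := by
  set π := QuotientGroup.mk' (pPrimeCore p G)
  obtain ⟨V, hV, hVmap, hcov, hVle⟩ := Quadratic.exists_local_lift π (QuotientGroup.mk'_surjective _) Vb hVb
  set N := Subgroup.normalizer (V : Set G)
  have hsur : ∀ y, ∃ n ∈ N, π n = y := fun y => (hcov.trans (sup_le le_rfl hVle)) (by
    rw [Subgroup.normalizer_eq_top]; trivial)
  obtain ⟨A, hA, hAmap, -, -⟩ := Quadratic.exists_local_lift (π.comp N.subtype) (fun y => by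
    obtain ⟨n, hn, e⟩ := hsur y; exact ⟨⟨n, hn⟩, e⟩) Ab hAb
  exact ⟨V, A.map N.subtype, hV, hA.map _, Subgroup.map_subtype_le _, hVmap,
    by rw [Subgroup.map_map]; exact hAmap, hsur⟩

theorem lift_le_pPrimePCore {V : Subgroup G}
    (hV : V.map (QuotientGroup.mk' (pPrimeCore p G)) ≤ pCore p (G ⧸ pPrimeCore p G)) : V ≤ pPrimePCore p G :=
  fun v hv => hV (Subgroup.mem_map_of_mem _ hv)

theorem normal_sup_of_map_normal {V : Subgroup G} {Vb : Subgroup (G ⧸ pPrimeCore p G)} [hn : Vb.Normal]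
    (hV : V.map (QuotientGroup.mk' (pPrimeCore p G)) = Vb) : (pPrimeCore p G ⊔ V).Normal := by
  have e : pPrimeCore p G ⊔ V = Vb.comap (QuotientGroup.mk' (pPrimeCore p G)) := by
    rw [← hV, Subgroup.comap_map_eq, QuotientGroup.ker_mk', sup_comm]
  rw [e]
  exact hn.comap _

/-- `p`-stability passes to `G / O_{p'}(G)`. -/
theorem isPStable_quotient (h : IsPStable p G) : IsPStable p (G ⧸ pPrimeCore p G) := by
  obtain ⟨hodd, hcore, hst⟩ := h
  set O := pPrimeCore p G
  set π := QuotientGroup.mk' O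
  have hπs : Function.Surjective π := QuotientGroup.mk'_surjective O
  have hO' : pPrimeCore p (G ⧸ O) = ⊥ := pPrimeCore_quotient_eq_bot p
  refine ⟨hodd, fun hb => hcore ?_, fun Ab Pb hAb hPb _ hPle hPn hq => ?_⟩
  · have h1 : (pCore p G).map π ≤ pCore p (G ⧸ O) :=
      le_pCore (hN := Subgroup.Normal.map inferInstance π hπs) ((isPGroup_pCore p).map π)
    rw [hb, le_bot_iff, Subgroup.map_eq_bot_iff, QuotientGroup.ker_mk'] at h1
    rw [← inf_eq_left.2 h1]
    exact inf_pPrimeCore_eq_bot (isPGroup_pCore p)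
  haveI : Pb.Normal := by
    have := hPn
    rwa [hO', bot_sup_eq] at this
  obtain ⟨V, A, hV, hA, hAN, hVmap, hAmap, hsur⟩ := exists_lift_pair Pb hPb Ab hAb
  have hq' := commutator_bot_of_quotient hV hAN (by rw [hVmap, hAmap]; exact hq)
  have h1 := hst A V hA hV (fun a ha v hv => (Subgroup.mem_normalizer_iff.1 (hAN ha) v).1 hv)
    (lift_le_pPrimePCore (hVmap.le.trans (le_pCore hPb))) (normal_sup_of_map_normal hVmap) hq'
  set N := Subgroup.normalizer (V : Set G)
  set Nb := Subgroup.normalizer (Pb : Set (G ⧸ O))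
  let f₀ : N →* Nb := (π.comp N.subtype).codRestrict Nb fun _ => by
    rw [show Nb = ⊤ from Subgroup.normalizer_eq_top_iff.2 inferInstance]; trivial
  let f := QuotientGroup.map ((Subgroup.centralizer (V : Set G)).subgroupOf N)
    ((Subgroup.centralizer (Pb : Set (G ⧸ O))).subgroupOf Nb) f₀ (fun c hc => by
      intro v hv
      obtain ⟨v, hv', rfl⟩ := hVmap.ge hv
      have h2 := congrArg π ((Subgroup.mem_subgroupOf.1 hc) v hv')
      rw [map_mul, map_mul] at h2
      exact h2)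
  have hfs : Function.Surjective f := fun y => by
    obtain ⟨y, rfl⟩ := QuotientGroup.mk_surjective y
    obtain ⟨n, hn, e⟩ := hsur y
    exact ⟨QuotientGroup.mk ⟨n, hn⟩, congrArg QuotientGroup.mk (Subtype.ext e : f₀ ⟨n, hn⟩ = y)⟩
  rintro _ ⟨⟨y, hy⟩, hyA, rfl⟩
  obtain ⟨a, ha, rfl⟩ := hAmap.ge hyA
  exact le_pCore (hN := Subgroup.Normal.map inferInstance f hfs) ((isPGroup_pCore p).map f)
    ⟨_, h1 ⟨⟨a, hAN ha⟩, ha, rfl⟩, rfl⟩

/-- `p`-stability lifts from `G / O_{p'}(G)`. -/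
theorem isPStable_of_quotient (hcore : pCore p G ≠ ⊥) (h : IsPStable p (G ⧸ pPrimeCore p G)) : IsPStable p G := by
  obtain ⟨hodd, -, hst⟩ := h
  set O := pPrimeCore p G
  set π := QuotientGroup.mk' O
  have hπs : Function.Surjective π := QuotientGroup.mk'_surjective O
  refine ⟨hodd, hcore, fun A P hA hP hAP hPle hPn hq => ?_⟩
  haveI hn : (P.map π).Normal := by
    have := Subgroup.Normal.map hPn π hπs
    rwa [Subgroup.map_sup, (Subgroup.map_eq_bot_iff _).2 (le_of_eq (QuotientGroup.ker_mk' O).symm), bot_sup_eq] at this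
  have h1 := hst (A.map π) (P.map π) (hA.map _) (hP.map _)
    (by rintro _ ⟨a, ha, rfl⟩ _ ⟨x, hx, rfl⟩; exact ⟨_, hAP a ha x hx, by simp⟩)
    (by
      rintro _ ⟨x, hx, rfl⟩
      rw [pPrimePCore, Subgroup.mem_comap]
      exact le_pCore (N := (pCore p (G ⧸ O)).map (QuotientGroup.mk' (pPrimeCore p (G ⧸ O))))
        (hN := Subgroup.Normal.map inferInstance _ (QuotientGroup.mk'_surjective _))
        ((isPGroup_pCore p).map _) ⟨_, hPle hx, rfl⟩)
    (by rw [show pPrimeCore p (G ⧸ O) = ⊥ from pPrimeCore_quotient_eq_bot p, bot_sup_eq]; exact hn)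
    (by rw [← Subgroup.map_commutator, ← Subgroup.map_commutator, hq, Subgroup.map_bot])
  set N := Subgroup.normalizer (P : Set G)
  set Nb := Subgroup.normalizer ((P.map π : Subgroup (G ⧸ O)) : Set (G ⧸ O))
  let f₀ : N →* Nb := (π.comp N.subtype).codRestrict Nb fun _ => by
    rw [show Nb = ⊤ from Subgroup.normalizer_eq_top_iff.2 inferInstance]; trivial
  let f := QuotientGroup.map ((Subgroup.centralizer (P : Set G)).subgroupOf N)
    ((Subgroup.centralizer ((P.map π : Subgroup (G ⧸ O)) : Set (G ⧸ O))).subgroupOf Nb) f₀ (fun c hc => by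
      rintro _ ⟨v, hv', rfl⟩
      have h2 := congrArg π ((Subgroup.mem_subgroupOf.1 hc) v hv')
      rw [map_mul, map_mul] at h2
      exact h2)
  have hinj : Function.Injective f := by
    rw [injective_iff_map_eq_one]
    intro q hq
    obtain ⟨⟨n, hn⟩, rfl⟩ := QuotientGroup.mk_surjective q
    have hq' : f₀ ⟨n, hn⟩ ∈ (Subgroup.centralizer ((P.map π : Subgroup (G ⧸ O)) : Set (G ⧸ O))).subgroupOf Nb :=
      (QuotientGroup.eq_one_iff _).1 hq
    refine (QuotientGroup.eq_one_iff _).2 (Subgroup.mem_subgroupOf.2 fun v hv => ?_)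
    have h2 : π v * π n = π n * π v := (Subgroup.mem_subgroupOf.1 hq') _ ⟨v, hv, rfl⟩
    have h3 : n * v * n⁻¹ * v⁻¹ ∈ P ⊓ O := by
      refine Subgroup.mem_inf.2 ⟨mul_mem ((Subgroup.mem_normalizer_iff.1 hn v).1 hv) (inv_mem hv),
        (QuotientGroup.eq_one_iff _).1 ?_⟩
      show π (n * v * n⁻¹ * v⁻¹) = 1
      rw [map_mul, map_mul, map_mul, map_inv, map_inv, ← h2, mul_inv_cancel_right, mul_inv_cancel]
    rw [inf_pPrimeCore_eq_bot hP, Subgroup.mem_bot, mul_inv_eq_one, mul_inv_eq_iff_eq_mul] at h3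
    exact h3.symm
  rintro _ ⟨⟨a, ha⟩, haA, rfl⟩
  refine le_pCore (N := (pCore p _).comap f) ((isPGroup_pCore p).comap_of_injective f hinj) ?_
  exact h1 ⟨f₀ ⟨a, ha⟩, ⟨a, haA, rfl⟩, rfl⟩

theorem quadStable_of_isPStable (h : IsPStable p G) : ZJ.QuadStable p (G ⧸ pPrimeCore p G) := by
  intro Vb hVn hVb a hap hq
  obtain ⟨-, -, hst⟩ := isPStable_quotient h
  obtain ⟨k, hk⟩ := hap
  have hA : IsPGroup p (Subgroup.zpowers a) :=
    IsPGroup.of_card_dvd_pow (n := k) (by rw [Nat.card_zpowers]; exact orderOf_dvd_of_pow_eq_one hk)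
  have hnorm : ∀ x : (G ⧸ pPrimeCore p G), x ∈ Subgroup.normalizer (Vb : Set (G ⧸ pPrimeCore p G)) := fun x => by
    rw [Subgroup.normalizer_eq_top]; trivial
  have hb : pPrimeCore p (G ⧸ pPrimeCore p G) = ⊥ := pPrimeCore_quotient_eq_bot p
  have h1 := hst (Subgroup.zpowers a) Vb hA hVb (fun x _ v hv => hVn.conj_mem v hv x)
    (by
      intro v hv
      rw [pPrimePCore, Subgroup.mem_comap]
      exact le_pCore (N := Vb.map (QuotientGroup.mk' (pPrimeCore p (G ⧸ pPrimeCore p G))))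
        (hN := Subgroup.Normal.map hVn _ (QuotientGroup.mk'_surjective _))
        (hVb.map _) ⟨_, hv, rfl⟩)
    (by rw [hb, bot_sup_eq]; exact hVn) hq
  set N := Subgroup.normalizer (Vb : Set (G ⧸ pPrimeCore p G))
  let f := QuotientGroup.map ((Subgroup.centralizer (Vb : Set (G ⧸ pPrimeCore p G))).subgroupOf N) (Subgroup.centralizer (Vb : Set (G ⧸ pPrimeCore p G)))
    N.subtype fun _ hx => hx
  have hfs : Function.Surjective f := fun y => by
    obtain ⟨y, rfl⟩ := QuotientGroup.mk_surjective y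
    exact ⟨QuotientGroup.mk ⟨y, hnorm y⟩, rfl⟩
  exact le_pCore (hN := Subgroup.Normal.map inferInstance f hfs) ((isPGroup_pCore p).map f)
    ⟨_, h1 ⟨⟨a, hnorm a⟩, Subgroup.mem_zpowers a, rfl⟩, rfl⟩

theorem zj_factor_of_isPStable (hp : p ≠ 2) (hc : IsPConstrained p G) (h : IsPStable p G) (P : Sylow p G) :
    pPrimeCore p G ⊔ Subgroup.normalizer (centerThompsonAOf (P : Subgroup G) : Set G) = ⊤ := by
  rw [← ZJ.zj_zero]
  exact sup_normalizer_zj_of_closed hp (Or.inl rfl) hc (quadStable_of_isPStable h) P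
    ⟨le_rfl, fun _ _ _ hg => hg⟩

/-- All local subgroups lie in the normalizer of `Z(J(P))`. -/
theorem normalizer_le_zj (hp : p ≠ 2)
    (hloc : ∀ Q : Subgroup G, IsPGroup p Q → Q ≠ ⊥ → pPrimeCore p ↥(Subgroup.normalizer (Q : Set G)) = ⊥ ∧
      IsPConstrained p ↥(Subgroup.normalizer (Q : Set G)) ∧ IsPStable p ↥(Subgroup.normalizer (Q : Set G)))
    (P : Sylow p G) (Q : Subgroup G) (hQP : Q ≤ (P : Subgroup G)) (hQ : Q ≠ ⊥) :
    Subgroup.normalizer (Q : Set G) ≤ Subgroup.normalizer (centerThompsonAOf (P : Subgroup G) : Set G) := by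
  set W : Subgroup G → Subgroup G := fun T => ZJ.zj 0 T with hW
  have hWn : ∀ T : Subgroup G, Subgroup.normalizer (T : Set G) ≤ Subgroup.normalizer (W T : Set G) :=
    fun T => ZJ.normalizer_le_normalizer_zj 0 T
  -- the local step
  have hstep : ∀ U ≤ (P : Subgroup G), U ≠ ⊥ → Full p (P : Subgroup G) U →
      Subgroup.normalizer (U : Set G) ≤
        Subgroup.normalizer (W ((P : Subgroup G) ⊓ Subgroup.normalizer (U : Set G)) : Set G) := by
    intro U hU hU0 hUf
    set L := Subgroup.normalizer (U : Set G)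
    set T := (P : Subgroup G) ⊓ L
    obtain ⟨hb, hc, hs⟩ := hloc U (P.2.to_le hU) hU0
    set Ts : Sylow p L := ((P.2.to_le (inf_le_left : T ≤ (P : Subgroup G))).of_equiv
      (Subgroup.subgroupOfEquivOfLe (inf_le_right : T ≤ L)).symm).toSylow hUf
    have h1 := sup_normalizer_zj_of_closed hp (Or.inl rfl) hc (quadStable_of_isPStable hs) Ts
      (Q := (Ts : Subgroup L)) ⟨le_rfl, fun _ _ _ hg => hg⟩
    rw [hb, bot_sup_eq] at h1
    intro l hl
    have h2 := Subgroup.le_normalizer_map L.subtype ⟨⟨l, hl⟩, h1.ge (Subgroup.mem_top _), rfl⟩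
    rwa [← ZJ.zj_map 0 L.subtype_injective, show (Ts : Subgroup L) = T.subgroupOf L from rfl,
      Subgroup.map_subgroupOf_eq_of_le inf_le_right] at h2
  have hW' : ∀ W' ∈ ({W} : Set (Subgroup G → Subgroup G)), ∀ T ≤ (P : Subgroup G),
      (P : Subgroup G) ⊓ Subgroup.centralizer ((P : Subgroup G) : Set G) ≤ T → T ≠ ⊥ →
      W' T ≤ T ∧ W' T ≠ ⊥ ∧ (P : Subgroup G) ⊓ Subgroup.normalizer (T : Set G) ≤ Subgroup.normalizer (W' T : Set G) := by
    rintro W' rfl T hT - hT0
    exact ⟨ZJ.zj_le 0 T, ZJ.zj_ne_bot (p := p) (Or.inl rfl) (P.2.to_le hT) hT0, inf_le_right.trans (hWn T)⟩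
  -- fusion is controlled
  have hctl : ∀ (A : Subgroup G) (g : G), A ≤ (P : Subgroup G) → cm g A ≤ (P : Subgroup G) →
      Chain (P : Subgroup G) (steps {W} (P : Subgroup G)) A g := fun A g hA hg =>
    chain_of_local P {W} (Full p (P : Subgroup G)) (fun U hU => exists_full P hU) (fun _ _ h => h) hW'
      (fun U hU hU0 hUf B hB n hn hnB => .single ⟨hn, W, rfl, hstep U hU hU0 hUf hn⟩ hB hnB) hA hg
  suffices key : ∀ m, ∀ Q ≤ (P : Subgroup G), Q ≠ ⊥ →
      Nat.card G - Nat.card ↥((P : Subgroup G) ⊓ Subgroup.normalizer (Q : Set G)) = m →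
      Subgroup.normalizer (Q : Set G) ≤ Subgroup.normalizer (W (P : Subgroup G) : Set G) by
    rw [← ZJ.zj_zero]
    exact key _ Q hQP hQ rfl
  intro m
  induction m using Nat.strong_induction_on with
  | h m ih =>
  intro Q hQP hQ hm
  obtain ⟨y, hy, hfull⟩ := exists_full P hQP
  obtain ⟨n, hn, hne⟩ := (hctl _ y inf_le_left hy).exists_mem
    (N := Subgroup.normalizer (W (P : Subgroup G) : Set G)) (by rintro l ⟨W', rfl, hl⟩; exact hl)
  set U := cm y Q
  have hyT := cm_inf_normalizer_le y hy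
  have hU : U ≤ (P : Subgroup G) := (cm_mono (le_inf hQP Subgroup.le_normalizer)).trans hy
  have hU0 : U ≠ ⊥ := fun h => hQ ((Subgroup.map_eq_bot_iff_of_injective Q (MulAut.conj y).injective).1 h)
  have hUW : Subgroup.normalizer (U : Set G) ≤ Subgroup.normalizer (W (P : Subgroup G) : Set G) := by
    set T := (P : Subgroup G) ⊓ Subgroup.normalizer (U : Set G) with hT
    refine (hstep U hU hU0 hfull).trans ?_
    by_cases hTP : T = (P : Subgroup G)
    · rw [show (P : Subgroup G) ⊓ Subgroup.normalizer (U : Set G) = (P : Subgroup G) from hTP]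
    · have hT0 : T ≠ ⊥ := fun h => hU0 (le_bot_iff.1 (h ▸ le_inf hU Subgroup.le_normalizer))
      obtain ⟨hWT, hW0, hWnT⟩ := hW' W rfl T inf_le_left (center_le_inf_normalizer hU) hT0
      refine ih _ ?_ (W T) (hWT.trans inf_le_left) hW0 rfl
      have hlt := (lt_inf_normalizer P inf_le_left hTP).trans_le (le_inf inf_le_left hWnT)
      have h1 : Nat.card T < Nat.card ↥((P : Subgroup G) ⊓ Subgroup.normalizer (W T : Set G)) :=
        lt_of_le_of_ne (Subgroup.card_le_of_le hlt.le) fun h => hlt.ne (Subgroup.eq_of_le_of_card_ge hlt.le h.ge)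
      have h2 := card_cm y _ ▸ Subgroup.card_le_of_le hyT
      have h3 := Nat.le_of_dvd Nat.card_pos
        ((P : Subgroup G) ⊓ Subgroup.normalizer (W T : Set G)).card_subgroup_dvd_card
      omega
  set N := Subgroup.normalizer (W (P : Subgroup G) : Set G)
  intro x hx
  -- `y = n c` with `c` centralizing `Q`
  set c := n⁻¹ * y with hc
  have hcQ : ∀ a ∈ Q, c * a * c⁻¹ = a := fun a ha => by
    calc c * a * c⁻¹ = n⁻¹ * (y * a * y⁻¹) * n := by rw [hc]; group
      _ = n⁻¹ * (n * a * n⁻¹) * n := by rw [hne a (le_inf hQP Subgroup.le_normalizer ha)]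
      _ = a := by group
  have hcN : c ∈ Subgroup.normalizer (Q : Set G) := Local.mem_normalizer_of_map_conj_eq (cm_eq_self hcQ)
  have key : ∀ z ∈ Subgroup.normalizer (Q : Set G), c * z * c⁻¹ ∈ N := by
    intro z hz
    have h1 : y * z * y⁻¹ ∈ N := hUW (Local.mem_normalizer_of_map_conj_eq (by
      show cm (y * z * y⁻¹) (cm y Q) = cm y Q
      rw [cm_cm, inv_mul_cancel_right, ← cm_cm]
      exact congrArg (cm y) (Local.map_conj_eq_of_mem_normalizer hz)))
    rw [show c * z * c⁻¹ = n⁻¹ * (y * z * y⁻¹) * n by rw [hc]; group]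
    exact mul_mem (mul_mem (inv_mem hn) h1) hn
  have h2 := key (c⁻¹ * x * c) (mul_mem (mul_mem (inv_mem hcN) hx) hcN)
  rwa [show c * (c⁻¹ * x * c) * c⁻¹ = x by group] at h2

end CfsgLib.StrongFusion
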