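import Cfsg.Agent.Lib.StrongFusion.Local
import Cfsg.Agent.Lib.Quadratic.Stable
import Cfsg.Agent.Lib.ZJ.StronglyClosed
import Cfsg.Agent.Lib.Transitivity
import Cfsg.Agent.S3836

/-!
Control of strong fusion by `ZJ` in stable groups with constrained local subgroups.
-/

set_option autoImplicit false
set_option linter.unusedSectionVars false

namespace CfsgLib.StrongFusion

open CfsgLib Cfsg
open scoped Pointwise commutatorElement

universe u
variable {G : Type u} [Group G] [Finite G] {p : ℕ} [Fact p.Prime]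

/-- Normalizer stability passes to `G / O_{p'}(G)`. -/
theorem quadStable_quotient (h : IsNormalizerPStable p G) : ZJ.QuadStable p (G ⧸ pPrimeCore p G) := by
  intro Vb hVn hVb a _ hq
  set π := QuotientGroup.mk' (pPrimeCore p G)
  obtain ⟨V, hV, hVmap, hcov, hVle⟩ := Quadratic.exists_local_lift π (QuotientGroup.mk'_surjective _) Vb hVb
  set N := Subgroup.normalizer (V : Set G)
  have hsur : ∀ y, y ∈ N.map π := fun y => (hcov.trans (sup_le le_rfl hVle)) (by
    rw [Subgroup.normalizer_eq_top]; trivial)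
  obtain ⟨a₀, ha₀, rfl⟩ := hsur a
  have hbot : V ⊓ pPrimeCore p G = ⊥ := by
    obtain ⟨k, hk⟩ := IsPGroup.iff_card.1 hV
    refine Subgroup.inf_eq_bot_of_coprime ?_
    rw [hk]
    exact ((card_pPrimeCore_coprime p (G := G)).pow_right k).symm
  have hin : ⁅⁅V, Subgroup.zpowers a₀⁆, Subgroup.zpowers a₀⁆ ≤ V := by
    have h1 : ⁅V, Subgroup.zpowers a₀⁆ ≤ V := by
      rw [Subgroup.commutator_le]
      intro v hv z hz
      have hz' : z ∈ N := (Subgroup.zpowers_le.2 ha₀) hz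
      rw [commutatorElement_def]
      rw [show v * z * v⁻¹ * z⁻¹ = v * (z * v⁻¹ * z⁻¹) by group]
      exact V.mul_mem hv ((Subgroup.mem_normalizer_iff.1 hz' _).1 (V.inv_mem hv))
    exact (Subgroup.commutator_mono h1 le_rfl).trans h1
  have hq' : ⁅⁅V, Subgroup.zpowers a₀⁆, Subgroup.zpowers a₀⁆ = ⊥ := by
    rw [eq_bot_iff, ← hbot]
    refine le_inf hin fun z hz => ?_
    have h1 : π z ∈ ⁅⁅Vb, Subgroup.zpowers (π a₀)⁆, Subgroup.zpowers (π a₀)⁆ := by
      rw [← hVmap, ← MonoidHom.map_zpowers, ← Subgroup.map_commutator, ← Subgroup.map_commutator]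
      exact Subgroup.mem_map_of_mem _ hz
    rw [hq, Subgroup.mem_bot] at h1
    exact (QuotientGroup.eq_one_iff z).1 h1
  set f := QuotientGroup.lift ((Subgroup.centralizer (V : Set G)).subgroupOf N)
    ((QuotientGroup.mk' (Subgroup.centralizer (Vb : Set (G ⧸ pPrimeCore p G)))).comp (π.comp N.subtype))
    (fun c hc => (QuotientGroup.eq_one_iff _).2 (by
      intro v hv
      obtain ⟨v, hv', rfl⟩ := hVmap.ge hv
      have h1 := congrArg π ((Subgroup.mem_subgroupOf.1 hc) v hv')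
      simpa using h1)) with hf
  have hfs : Function.Surjective f := fun y => by
    obtain ⟨y, rfl⟩ := QuotientGroup.mk_surjective y
    obtain ⟨n, hn, rfl⟩ := hsur y
    exact ⟨QuotientGroup.mk ⟨n, hn⟩, rfl⟩
  have h1 : (pCore p _).map f ≤ pCore p _ :=
    le_pCore (hN := Subgroup.Normal.map inferInstance f hfs) ((isPGroup_pCore p).map f)
  exact h1 ⟨_, h V hV a₀ ha₀ hq', rfl⟩

/-- The ZJ factorization relative to a strongly closed subgroup. -/
theorem sup_normalizer_zj_of_closed (hp : p ≠ 2) {e : ℕ} (he : e = 0 ∨ e = p) (hc : IsPConstrained p G)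
    (hst : ZJ.QuadStable p (G ⧸ pPrimeCore p G)) (T : Sylow p G) {Q : Subgroup G}
    (hQ : IsStronglyClosed Q (T : Subgroup G)) :
    pPrimeCore p G ⊔ Subgroup.normalizer (ZJ.zj e Q : Set G) = ⊤ := by
  set O := pPrimeCore p G with hO
  set π := QuotientGroup.mk' O
  have hπ : Function.Surjective π := QuotientGroup.mk'_surjective O
  set Tb : Sylow p (G ⧸ O) := T.mapSurjective hπ
  have hdis : (T : Subgroup G) ⊓ O = ⊥ := by
    obtain ⟨k, hk⟩ := IsPGroup.iff_card.1 T.2
    refine Subgroup.inf_eq_bot_of_coprime ?_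
    rw [hk]
    exact ((card_pPrimeCore_coprime p (G := G)).pow_right k).symm
  have hinj : Set.InjOn π ((T : Subgroup G) : Set G) := fun s hs t ht hst => by
    have h1 : s⁻¹ * t ∈ (T : Subgroup G) ⊓ O :=
      ⟨(T : Subgroup G).mul_mem ((T : Subgroup G).inv_mem hs) ht, QuotientGroup.eq.1 hst⟩
    rw [hdis, Subgroup.mem_bot, inv_mul_eq_one] at h1
    exact h1
  have hQb : IsStronglyClosed (Q.map π) (Tb : Subgroup (G ⧸ O)) := by
    refine ⟨Subgroup.map_mono hQ.1, ?_⟩
    rintro _ ⟨x, hx, rfl⟩ γ hγ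
    obtain ⟨g, rfl⟩ := hπ γ
    obtain ⟨t, ht, hte⟩ : π g * π x * (π g)⁻¹ ∈ (T : Subgroup G).map π := hγ
    -- conjugate inside the preimage of a cyclic `p`-subgroup
    set M := Subgroup.zpowers t ⊔ O
    have hgx : g * x * g⁻¹ ∈ M := by
      rw [show g * x * g⁻¹ = t * (t⁻¹ * (g * x * g⁻¹)) by group]
      refine M.mul_mem (Subgroup.mem_sup_left (Subgroup.mem_zpowers t)) (Subgroup.mem_sup_right ?_)
      exact QuotientGroup.eq.1 (show π t = π (g * x * g⁻¹) by rw [map_mul, map_mul, map_inv]; exact hte)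
    have hidx : ¬ p ∣ (Subgroup.zpowers t).relIndex M := by
      intro h
      have h1 : Nat.card (Subgroup.zpowers t) * (Subgroup.zpowers t).relIndex M ∣ Nat.card O * Nat.card (Subgroup.zpowers t) := by
        have e1 : (⊥ : Subgroup G).relIndex (Subgroup.zpowers t) * (Subgroup.zpowers t).relIndex M = (⊥ : Subgroup G).relIndex M :=
          Subgroup.relIndex_mul_relIndex _ _ _ bot_le le_sup_left
        have e2 : (⊥ : Subgroup G).relIndex O * O.relIndex M = (⊥ : Subgroup G).relIndex M :=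
          Subgroup.relIndex_mul_relIndex _ _ _ bot_le le_sup_right
        have e3 : O.relIndex M = O.relIndex (Subgroup.zpowers t) := Subgroup.relIndex_sup_right _ _
        rw [Subgroup.relIndex_bot_left, Subgroup.relIndex_bot_left] at e1 e2
        rw [e1, ← e2, e3]
        exact Nat.mul_dvd_mul_left _ (Subgroup.relIndex_dvd_card _ _)
      have h2 : (Subgroup.zpowers t).relIndex M ∣ Nat.card O :=
        (Nat.mul_dvd_mul_iff_left Nat.card_pos).1 (h1.trans (dvd_of_eq (mul_comm _ _)))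
      exact (Fact.out : p.Prime).coprime_iff_not_dvd.1 (card_pPrimeCore_coprime p (G := G)).symm (h.trans h2)
    obtain ⟨w, hw, hwx⟩ := exists_conj_le (Q := Subgroup.zpowers t) le_sup_left
      (T.2.to_le (Subgroup.zpowers_le.2 ht)) hidx (R := Subgroup.zpowers (g * x * g⁻¹)) (Subgroup.zpowers_le.2 hgx)
      (by
        have h1 := ((T.2.to_le (hQ.1)).to_le (Subgroup.zpowers_le.2 hx)).map (MulAut.conj g).toMonoidHom
        rwa [MonoidHom.map_zpowers] at h1)
    have h3 : w * (g * x * g⁻¹) * w⁻¹ ∈ Subgroup.zpowers t := hwx (conj_mem_cm (Subgroup.mem_zpowers _))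
    obtain ⟨z, hz, o, ho, rfl⟩ := Subgroup.mem_sup_of_normal_right.1 hw
    have h4 : o * (g * x * g⁻¹) * o⁻¹ ∈ Subgroup.zpowers t := by
      have h5 := mul_mem (mul_mem (inv_mem hz) h3) hz
      rwa [show z⁻¹ * (z * o * (g * x * g⁻¹) * (z * o)⁻¹) * z = o * (g * x * g⁻¹) * o⁻¹ by group] at h5
    have h6 : o * (g * x * g⁻¹) * o⁻¹ ∈ Q := by
      have h7 := hQ.2 x hx (o * g) (by
        rw [show o * g * x * (o * g)⁻¹ = o * (g * x * g⁻¹) * o⁻¹ by group]
        exact (Subgroup.zpowers_le.2 ht) h4)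
      rwa [show o * g * x * (o * g)⁻¹ = o * (g * x * g⁻¹) * o⁻¹ by group] at h7
    refine ⟨_, h6, ?_⟩
    have hπo : π o = 1 := (QuotientGroup.eq_one_iff o).2 ho
    simp [hπo]
  have hn := ZJ.zj_normal_of_closed hp he (Transitivity.centralizer_pCore_quotient_le hc) hst Tb (Q.map π) hQb
  rw [ZJ.zj_map_of_injOn e π Q (hinj.mono hQ.1)] at hn
  set Z := ZJ.zj e Q with hZ
  rw [eq_top_iff]
  intro x _
  have hxZ : cm x Z ≤ O ⊔ Z := by
    rintro _ ⟨z, hz, rfl⟩
    obtain ⟨z', hz', e'⟩ := hn.conj_mem (π z) ⟨z, hz, rfl⟩ (π x)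
    show x * z * x⁻¹ ∈ O ⊔ Z
    rw [show x * z * x⁻¹ = (x * z * x⁻¹ * z'⁻¹) * z' by group]
    refine mul_mem (Subgroup.mem_sup_left ((QuotientGroup.eq_one_iff _).1 ?_)) (Subgroup.mem_sup_right hz')
    show π (x * z * x⁻¹ * z'⁻¹) = 1
    rw [map_mul, map_mul, map_mul, map_inv, map_inv, e', mul_inv_cancel]
  have hZT : Z ≤ (T : Subgroup G) := (ZJ.zj_le e Q).trans hQ.1
  have hidx : ¬ p ∣ Z.relIndex (O ⊔ Z) := by
    intro h
    have e1 : (⊥ : Subgroup G).relIndex Z * Z.relIndex (O ⊔ Z) = (⊥ : Subgroup G).relIndex (O ⊔ Z) :=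
      Subgroup.relIndex_mul_relIndex _ _ _ bot_le le_sup_right
    have e2 : (⊥ : Subgroup G).relIndex O * O.relIndex (O ⊔ Z) = (⊥ : Subgroup G).relIndex (O ⊔ Z) :=
      Subgroup.relIndex_mul_relIndex _ _ _ bot_le le_sup_left
    rw [Subgroup.relIndex_sup_left, ← e1, Subgroup.relIndex_bot_left, Subgroup.relIndex_bot_left] at e2
    have h2 : Z.relIndex (O ⊔ Z) ∣ Nat.card O := by
      refine (Nat.mul_dvd_mul_iff_left (Nat.card_pos (α := Z))).1 ?_
      rw [← e2, mul_comm (Nat.card Z)]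
      exact Nat.mul_dvd_mul_left _ (Subgroup.relIndex_dvd_card _ _)
    exact (Fact.out : p.Prime).coprime_iff_not_dvd.1 (card_pPrimeCore_coprime p (G := G)).symm (h.trans h2)
  obtain ⟨w, hw, hwx⟩ := exists_conj_le (Q := Z) le_sup_right (T.2.to_le hZT) hidx hxZ ((T.2.to_le hZT).map _)
  have hm : w * x ∈ Subgroup.normalizer (Z : Set G) :=
    Local.mem_normalizer_of_map_conj_eq (Subgroup.eq_of_le_of_card_ge (by
      show cm (w * x) Z ≤ Z
      rw [← cm_cm]; exact hwx) (card_cm _ Z).ge)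
  have h1 : w ∈ O ⊔ Subgroup.normalizer (Z : Set G) := (sup_le le_sup_left (Subgroup.le_normalizer.trans le_sup_right)) hw
  rw [show x = w⁻¹ * (w * x) by group]
  exact mul_mem (inv_mem h1) (Subgroup.mem_sup_right hm)

/-- `D ∩ N_P(U)` is strongly closed in `N_P(U)` for the normalizer of `U`. -/
theorem isStronglyClosed_subgroupOf {P D L : Subgroup G} (hD : IsStronglyClosed D P) :
    IsStronglyClosed ((D ⊓ (P ⊓ L)).subgroupOf L) ((P ⊓ L).subgroupOf L) :=
  ⟨fun _ hx => hx.2, fun x hx g hg => ⟨hD.2 x hx.1 g (Subgroup.mem_subgroupOf.1 hg).1, hg⟩⟩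

/-- `N(Z) ≤ N(Ω₁ Z)`. -/
theorem normalizer_le_normalizer_omegaOne (Z : Subgroup G) :
    Subgroup.normalizer (Z : Set G) ≤ Subgroup.normalizer (omegaOne p Z : Set G) := by
  intro g hg
  refine Local.mem_normalizer_of_map_conj_eq (Subgroup.eq_of_le_of_card_ge ?_ (card_cm g _).ge)
  rw [omegaOne, MonoidHom.map_closure, Subgroup.closure_le]
  rintro _ ⟨x, ⟨hx, hxp⟩, rfl⟩
  refine Subgroup.subset_closure ⟨(Subgroup.mem_normalizer_iff.1 hg x).1 hx, ?_⟩
  show (g * x * g⁻¹) ^ p = 1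
  rw [conj_pow, hxp, mul_one, mul_inv_cancel]

theorem omegaOne_ne_bot {Z : Subgroup G} (hZ : IsPGroup p Z) (h : Z ≠ ⊥) : omegaOne p Z ≠ ⊥ := by
  haveI : Nontrivial Z := (Subgroup.nontrivial_iff_ne_bot Z).2 h
  have hdvd : p ∣ Nat.card Z := by
    obtain ⟨n, hn⟩ := IsPGroup.iff_card.1 hZ
    rcases n with _ | n
    · exact absurd (Subgroup.eq_bot_of_card_eq Z (by simpa using hn)) h
    · rw [hn]; exact dvd_pow_self p n.succ_ne_zero
  obtain ⟨z, hz⟩ := exists_prime_orderOf_dvd_card' p hdvd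
  intro hb
  have h1 : (z : G) ∈ omegaOne p Z :=
    Subgroup.subset_closure ⟨z.2, by rw [← hz, ← Subgroup.orderOf_coe]; exact pow_orderOf_eq_one _⟩
  rw [hb, Subgroup.mem_bot, ← orderOf_eq_one_iff, Subgroup.orderOf_coe, hz] at h1
  exact (Fact.out : p.Prime).ne_one h1

/-- Control by `N(W(D))` for `W` computed from `zj`, under stability and constraint of the locals. -/
theorem chain_zj_closed (hp : p ≠ 2) {e : ℕ} (he : e = 0 ∨ e = p) (P : Sylow p G) {D : Subgroup G}
    (hD : IsStronglyClosed D (P : Subgroup G)) (hst : IsNormalizerPStable p G)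
    (hc : ∀ U : Subgroup G, U ≤ (P : Subgroup G) → U ≠ ⊥ → IsPConstrained p ↥(Subgroup.normalizer (U : Set G)))
    (Φ : Subgroup G → Subgroup G) (hΦle : ∀ Z, Φ Z ≤ Z) (hΦne : ∀ Z : Subgroup G, IsPGroup p Z → Z ≠ ⊥ → Φ Z ≠ ⊥)
    (hΦn : ∀ Z : Subgroup G, Subgroup.normalizer (Z : Set G) ≤ Subgroup.normalizer (Φ Z : Set G))
    {A : Subgroup G} {g : G} (hA : A ≤ (P : Subgroup G)) (hg : cm g A ≤ (P : Subgroup G)) :
    Chain (P : Subgroup G) (Subgroup.normalizer (Φ (ZJ.zj e D) : Set G) : Set G) A g := by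
  have hDn : (P : Subgroup G) ≤ Subgroup.normalizer (D : Set G) := fun s hs =>
    Local.mem_normalizer_of_map_conj_eq (Subgroup.eq_of_le_of_card_ge (Local.map_conj_le fun x hx =>
      hD.2 x hx s (mul_mem (mul_mem hs (hD.1 hx)) (inv_mem hs))) (card_cm s D).ge)
  rcases eq_or_ne D ⊥ with rfl | hD0
  · refine .single ?_ hA hg
    have h1 : Φ (ZJ.zj e (⊥ : Subgroup G)) = ⊥ := le_bot_iff.1 ((hΦle _).trans (ZJ.zj_le e _))
    rw [h1, Subgroup.normalizer_eq_top]
    trivial
  set W : Subgroup G → Subgroup G := fun T => Φ (ZJ.zj e (D ⊓ T)) with hW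
  have key := chain_of_local P {W} (Full p (P : Subgroup G)) (fun U hU => exists_full P hU) (fun _ _ h => h) ?_ ?_ hA hg
  · refine key.bind le_rfl fun n hn B _ hB hnB => .single ?_ hB hnB
    obtain ⟨W', rfl, hn⟩ := hn
    show n ∈ Subgroup.normalizer (Φ (ZJ.zj e D) : Set G)
    simpa only [hW, inf_eq_left.2 hD.1] using hn
  · rintro W' rfl T hTP hZT -
    have hDT : D ⊓ T ≠ ⊥ := by
      -- `D` meets the centre of `P`
      haveI : (D.subgroupOf (P : Subgroup G)).Normal := (Subgroup.normal_subgroupOf_iff hD.1).2 fun x y hx hy =>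
        (Subgroup.mem_normalizer_iff.1 (hDn hy) x).1 hx
      haveI : Group.IsNilpotent (P : Subgroup G) := P.2.isNilpotent
      intro hb
      refine inf_center_ne_bot_of_nilpotent (N := D.subgroupOf (P : Subgroup G))
        (by rw [Ne, Subgroup.subgroupOf_eq_bot, disjoint_iff, inf_eq_left.2 hD.1]; exact hD0) ?_
      rw [eq_bot_iff]
      intro z hz
      have hz' := Subgroup.mem_inf.1 hz
      have h0 : (z : G) ∈ D ⊓ T :=
        ⟨hz'.1, hZT (show (z : G) ∈ (P : Subgroup G) ⊓ Subgroup.centralizer ((P : Subgroup G) : Set G) from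
          ⟨z.2, fun y hy => congrArg Subtype.val (Subgroup.mem_center_iff.1 hz'.2 (⟨y, hy⟩ : (P : Subgroup G)))⟩)⟩
      have h1 : (z : G) ∈ (⊥ : Subgroup G) := hb ▸ h0
      exact Subgroup.mem_bot.2 (Subtype.ext (Subgroup.mem_bot.1 h1))
    have hDTp : IsPGroup p ↥(D ⊓ T) := P.2.to_le (inf_le_left.trans hD.1)
    refine ⟨(hΦle _).trans ((ZJ.zj_le e _).trans inf_le_right),
      hΦne _ (hDTp.to_le (ZJ.zj_le e _)) (ZJ.zj_ne_bot he hDTp hDT), ?_⟩
    exact ((inf_le_inf_right _ hDn).trans Subgroup.inf_normalizer_le_normalizer_inf).trans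
      ((ZJ.normalizer_le_normalizer_zj e _).trans (hΦn _))
  · intro U hU hU0 hUf B hB n hn hnB
    set L := Subgroup.normalizer (U : Set G)
    set T := (P : Subgroup G) ⊓ L with hT
    have hTn : T ≤ Subgroup.normalizer (W T : Set G) :=
      ((le_inf (inf_le_left.trans hDn) Subgroup.le_normalizer).trans Subgroup.inf_normalizer_le_normalizer_inf).trans
        ((ZJ.normalizer_le_normalizer_zj e _).trans (hΦn _))
    refine chain_of_factor (N := Subgroup.normalizer (W T : Set G)) (S := (L : Set G) ∩ steps {W} T) inf_le_right (P.2.to_le inf_le_left) hUf hTn ?_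
      (fun m hm hmN => ⟨hm, W, rfl, hmN⟩) hB hn hnB
    set Ts : Sylow p L := ((P.2.to_le (inf_le_left : T ≤ (P : Subgroup G))).of_equiv
      (Subgroup.subgroupOfEquivOfLe (inf_le_right : T ≤ L)).symm).toSylow hUf
    have h1 := sup_normalizer_zj_of_closed hp he (hc U hU hU0) (quadStable_quotient (Cfsg.Agent.S3836.result hst L))
      Ts (Q := (D ⊓ T).subgroupOf L) (isStronglyClosed_subgroupOf hD)
    rw [eq_top_iff, ← h1]
    refine sup_le le_sup_left (le_trans ?_ le_sup_right)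
    intro m hm
    refine Subgroup.mem_subgroupOf.2 (hΦn _ ?_)
    have e1 : ((ZJ.zj e ((D ⊓ T).subgroupOf L)).map L.subtype) = ZJ.zj e (D ⊓ T) := by
      rw [← ZJ.zj_map e L.subtype_injective, Subgroup.map_subgroupOf_eq_of_le (inf_le_right.trans inf_le_right)]
    rw [← e1]
    exact Subgroup.le_normalizer_map L.subtype ⟨m, hm, rfl⟩

end CfsgLib.StrongFusion
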