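import Cfsg.Agent.Lib.Local
import Cfsg.Agent.Lib.PComplement
import Mathlib.GroupTheory.Sylow

/-!
Chains of conjugations and the passage from local to global control of strong fusion.
-/

set_option autoImplicit false
set_option linter.unusedSectionVars false

namespace CfsgLib.StrongFusion

open CfsgLib
open scoped Pointwise

variable {G : Type*} [Group G]

/-- Conjugate of a subgroup. -/
abbrev cm (g : G) (A : Subgroup G) : Subgroup G := A.map (MulAut.conj g).toMonoidHom

theorem mem_cm {g x : G} {A : Subgroup G} : x ∈ cm g A ↔ g⁻¹ * x * g ∈ A := Local.mem_map_conj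

theorem conj_mem_cm {g a : G} {A : Subgroup G} (h : a ∈ A) : g * a * g⁻¹ ∈ cm g A := ⟨a, h, rfl⟩

theorem cm_mono {g : G} {A B : Subgroup G} (h : A ≤ B) : cm g A ≤ cm g B := Subgroup.map_mono h

theorem cm_cm (g h : G) (A : Subgroup G) : cm g (cm h A) = cm (g * h) A := Local.map_conj_mul g h A

theorem cm_eq_self {g : G} {A : Subgroup G} (h : ∀ a ∈ A, g * a * g⁻¹ = a) : cm g A = A := by
  refine le_antisymm ?_ fun a ha => ⟨a, ha, h a ha⟩
  rintro _ ⟨a, ha, rfl⟩
  show g * a * g⁻¹ ∈ A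
  rw [h a ha]; exact ha

theorem cm_inv_cm (g : G) (A : Subgroup G) : cm g⁻¹ (cm g A) = A := by
  rw [cm_cm, inv_mul_cancel, cm_eq_self (fun a _ => by simp)]

theorem card_cm (g : G) (A : Subgroup G) : Nat.card (cm g A) = Nat.card A :=
  Subgroup.card_map_of_injective (MulAut.conj g).injective

theorem cm_one (A : Subgroup G) : cm 1 A = A := cm_eq_self fun a _ => by simp

theorem cm_congr {g g' : G} {A : Subgroup G} (h : ∀ a ∈ A, g' * a * g'⁻¹ = g * a * g⁻¹) : cm g' A = cm g A := by
  apply le_antisymm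
  · rintro _ ⟨a, ha, rfl⟩; exact ⟨a, ha, (h a ha).symm⟩
  · rintro _ ⟨a, ha, rfl⟩; exact ⟨a, ha, h a ha⟩

/-- A chain of conjugations by elements of `S` inside `T` inducing `g` on `A`. -/
inductive Chain (T : Subgroup G) (S : Set G) : Subgroup G → G → Prop
  | refl {A : Subgroup G} {g : G} (hA : A ≤ T) (hg : ∀ a ∈ A, g * a * g⁻¹ = a) : Chain T S A g
  | step {A : Subgroup G} {n g : G} (hA : A ≤ T) (hn : n ∈ S) (h : Chain T S (cm n A) g) : Chain T S A (g * n)

variable {T T' : Subgroup G} {S S' : Set G} {A B : Subgroup G} {g g' h : G}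

theorem Chain.le (h : Chain T S A g) : A ≤ T := by cases h <;> assumption

theorem Chain.image_le (h : Chain T S A g) : cm g A ≤ T := by
  induction h with
  | refl hA hg => rwa [cm_eq_self hg]
  | step _ _ _ ih => rwa [← cm_cm]

theorem Chain.mono (h : Chain T S A g) : ∀ {B}, B ≤ A → Chain T S B g := by
  induction h with
  | refl hA hg => exact fun hB => .refl (hB.trans hA) fun a ha => hg a (hB ha)
  | step hA hn _ ih => exact fun hB => .step (hB.trans hA) hn (ih (cm_mono hB))

theorem Chain.mul_central (h : Chain T S A g) : ∀ {c : G}, (∀ a ∈ A, c * a * c⁻¹ = a) → Chain T S A (g * c) := by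
  induction h with
  | @refl A g hA hg =>
    intro c hc
    refine .refl hA fun a ha => ?_
    calc g * c * a * (g * c)⁻¹ = g * (c * a * c⁻¹) * g⁻¹ := by group
      _ = a := by rw [hc a ha, hg a ha]
  | @step A n g hA hn _ ih =>
    intro c hc
    rw [show g * n * c = g * (n * c * n⁻¹) * n by group]
    refine .step hA hn (ih ?_)
    rintro _ ⟨a, ha, rfl⟩
    show n * c * n⁻¹ * (n * a * n⁻¹) * (n * c * n⁻¹)⁻¹ = n * a * n⁻¹
    calc _ = n * (c * a * c⁻¹) * n⁻¹ := by group
      _ = _ := by rw [hc a ha]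

theorem Chain.congr (h : Chain T S A g) (he : ∀ a ∈ A, g' * a * g'⁻¹ = g * a * g⁻¹) : Chain T S A g' := by
  have := h.mul_central (c := g⁻¹ * g') fun a ha => by
    calc g⁻¹ * g' * a * (g⁻¹ * g')⁻¹ = g⁻¹ * (g' * a * g'⁻¹) * g := by group
      _ = a := by rw [he a ha]; group
  rwa [mul_inv_cancel_left] at this

theorem Chain.trans (h1 : Chain T S A g) : ∀ {h}, Chain T S (cm g A) h → Chain T S A (h * g) := by
  induction h1 with
  | refl hA hg =>
    intro h h2
    rw [cm_eq_self hg] at h2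
    exact h2.mul_central hg
  | @step A n g hA hn _ ih =>
    intro h h2
    rw [← mul_assoc]
    exact .step hA hn (ih (by rwa [cm_cm]))

theorem Chain.single {n : G} (hn : n ∈ S) (hA : A ≤ T) (hB : cm n A ≤ T) : Chain T S A n := by
  have := Chain.step (g := 1) hA hn (.refl hB fun a _ => by simp)
  rwa [one_mul] at this

theorem Chain.inv (hS : ∀ n ∈ S, n⁻¹ ∈ S) (h : Chain T S A g) : Chain T S (cm g A) g⁻¹ := by
  induction h with
  | @refl A g hA hg =>
    rw [cm_eq_self hg]
    refine .refl hA fun a ha => ?_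
    calc g⁻¹ * a * g⁻¹⁻¹ = g⁻¹ * (g * a * g⁻¹) * g := by rw [hg a ha]; group
      _ = a := by group
  | @step A n g hA hn h' ih =>
    rw [← cm_cm, mul_inv_rev]
    refine ih.trans ?_
    rw [cm_inv_cm]
    exact .single (hS n hn) h'.le (by rwa [cm_inv_cm])

theorem Chain.bind (h : Chain T S A g) : T ≤ T' →
    (∀ n ∈ S, ∀ B : Subgroup G, Nat.card B = Nat.card A → B ≤ T → cm n B ≤ T → Chain T' S' B n) →
    Chain T' S' A g := by
  induction h with
  | refl hA hg => exact fun hT _ => .refl (hA.trans hT) hg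
  | @step A n g hA hn h' ih =>
    intro hT hstep
    exact (hstep n hn A rfl hA h'.le).trans (ih hT fun m hm B hB => hstep m hm B (hB.trans (card_cm n A)))

theorem Chain.exists_fin (h : Chain T S A g) :
    ∃ (n : ℕ) (c : Fin (n + 1) → G), c 0 = 1 ∧ (∀ i : Fin n, c i.succ * (c i.castSucc)⁻¹ ∈ S) ∧
      (∀ i : Fin (n + 1), cm (c i) A ≤ T) ∧
      ∀ a ∈ A, c (Fin.last n) * a * (c (Fin.last n))⁻¹ = g * a * g⁻¹ := by
  induction h with
  | @refl A g hA hg =>
    exact ⟨0, fun _ => 1, rfl, fun i => i.elim0, fun _ => by rw [cm_one]; exact hA,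
      fun a ha => by rw [hg a ha]; simp⟩
  | @step A m g hA hm _ ih =>
    obtain ⟨n, c, hc0, hcs, hcT, hcl⟩ := ih
    refine ⟨n + 1, Fin.cons 1 (fun i => c i * m), rfl, fun i => ?_, fun i => ?_, fun a ha => ?_⟩
    · refine Fin.cases ?_ (fun j => ?_) i
      · simp [hc0, hm]
      · rw [Fin.cons_succ, Fin.castSucc_succ, Fin.cons_succ]
        simpa [mul_assoc] using hcs j
    · refine Fin.cases ?_ (fun j => ?_) i
      · rw [Fin.cons_zero, cm_one]; exact hA
      · rw [Fin.cons_succ, ← cm_cm]; exact hcT j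
    · rw [show Fin.last (n + 1) = (Fin.last n).succ from rfl, Fin.cons_succ]
      calc c (Fin.last n) * m * a * (c (Fin.last n) * m)⁻¹
          = c (Fin.last n) * (m * a * m⁻¹) * (c (Fin.last n))⁻¹ := by group
        _ = g * (m * a * m⁻¹) * g⁻¹ := hcl _ (conj_mem_cm ha)
        _ = _ := by group

theorem Chain.exists_mem {N : Subgroup G} (hS : S ⊆ N) (h : Chain T S A g) :
    ∃ x ∈ N, ∀ a ∈ A, g * a * g⁻¹ = x * a * x⁻¹ := by
  induction h with
  | refl hA hg => exact ⟨1, N.one_mem, fun a ha => by rw [hg a ha]; simp⟩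
  | @step A n g hA hn _ ih =>
    obtain ⟨x, hx, hxe⟩ := ih
    refine ⟨x * n, N.mul_mem hx (hS hn), fun a ha => ?_⟩
    calc g * n * a * (g * n)⁻¹ = g * (n * a * n⁻¹) * g⁻¹ := by group
      _ = x * (n * a * n⁻¹) * x⁻¹ := hxe _ (conj_mem_cm ha)
      _ = _ := by group

/-- The steps allowed by a set of functors at `T`. -/
def steps (𝓦 : Set (Subgroup G → Subgroup G)) (T : Subgroup G) : Set G :=
  {n | ∃ W ∈ 𝓦, n ∈ Subgroup.normalizer (W T : Set G)}

theorem steps_inv (𝓦 : Set (Subgroup G → Subgroup G)) (T : Subgroup G) : ∀ n ∈ steps 𝓦 T, n⁻¹ ∈ steps 𝓦 T :=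
  fun n ⟨W, hW, hn⟩ => ⟨W, hW, inv_mem hn⟩

variable {p : ℕ}

/-- Fully normalized subgroups of a Sylow subgroup. -/
def Full (p : ℕ) (P U : Subgroup G) : Prop :=
  ¬ p ∣ (P ⊓ Subgroup.normalizer (U : Set G)).relIndex (Subgroup.normalizer (U : Set G))

theorem cm_inf_normalizer_le (y : G) {P U : Subgroup G} (h : cm y (P ⊓ Subgroup.normalizer (U : Set G)) ≤ P) :
    cm y (P ⊓ Subgroup.normalizer (U : Set G)) ≤ P ⊓ Subgroup.normalizer (cm y U : Set G) := by
  refine le_inf h (Local.map_conj_le fun x hx => Local.mem_normalizer_of_map_conj_eq ?_)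
  show cm (y * x * y⁻¹) (cm y U) = cm y U
  rw [cm_cm, show y * x * y⁻¹ * y = y * x by group, ← cm_cm]
  exact congrArg (cm y) (Local.map_conj_eq_of_mem_normalizer hx.2)

variable [Finite G] [Fact p.Prime]

/-- `p`-subgroups of `N` are conjugate in `N` into a Sylow subgroup of `N`. -/
theorem exists_conj_le {N Q R : Subgroup G} (hQN : Q ≤ N) (hQ : IsPGroup p Q) (hidx : ¬ p ∣ Q.relIndex N)
    (hRN : R ≤ N) (hR : IsPGroup p R) : ∃ m ∈ N, cm m R ≤ Q := by
  set Qs : Sylow p N := (hQ.of_equiv (Subgroup.subgroupOfEquivOfLe hQN).symm).toSylow hidx with hQs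
  obtain ⟨R', hR'⟩ := (hR.of_equiv (Subgroup.subgroupOfEquivOfLe hRN).symm).exists_le_sylow
  obtain ⟨m, hm⟩ := MulAction.exists_smul_eq N R' Qs
  refine ⟨m, m.2, ?_⟩
  rintro _ ⟨r, hr, rfl⟩
  have h1 : m * ⟨r, hRN hr⟩ * m⁻¹ ∈ ((m • R' : Sylow p N) : Subgroup N) := by
    rw [Sylow.coe_subgroup_smul, Subgroup.pointwise_smul_def]
    exact ⟨_, hR' hr, rfl⟩
  rw [hm] at h1
  exact h1

/-- Every subgroup of a Sylow subgroup is conjugate to a fully normalized one. -/
theorem exists_full (P : Sylow p G) {U : Subgroup G} (hU : U ≤ (P : Subgroup G)) :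
    ∃ y, cm y ((P : Subgroup G) ⊓ Subgroup.normalizer (U : Set G)) ≤ (P : Subgroup G) ∧
      Full p (P : Subgroup G) (cm y U) := by
  set N := Subgroup.normalizer (U : Set G) with hN
  have h1 : IsPGroup p ↥(((P : Subgroup G) ⊓ N).subgroupOf N) :=
    (P.2.to_le inf_le_left).of_equiv (Subgroup.subgroupOfEquivOfLe inf_le_right).symm
  obtain ⟨R, hR⟩ := h1.exists_le_sylow
  obtain ⟨P', hP'⟩ := (R.2.map N.subtype).exists_le_sylow
  obtain ⟨y, hy⟩ := MulAction.exists_smul_eq G P' P
  have hcm : cm y (P' : Subgroup G) = (P : Subgroup G) := by rw [← hy, Sylow.coe_subgroup_smul]; rfl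
  set RG := (R : Subgroup N).map N.subtype with hRG
  refine ⟨y, ?_, fun hdvd => ?_⟩
  · refine (cm_mono ?_).trans hcm.le
    exact fun x hx => hP' ⟨⟨x, hx.2⟩, hR hx, rfl⟩
  · have hN' : Subgroup.normalizer (cm y U : Set G) = cm y N := by
      rw [hN]; exact (Subgroup.map_normalizer_eq_of_bijective U (f := (MulAut.conj y).toMonoidHom) (MulAut.conj y).bijective).symm
    have hle : cm y RG ≤ (P : Subgroup G) ⊓ Subgroup.normalizer (cm y U : Set G) := by
      rw [hN']
      exact le_inf ((cm_mono hP').trans hcm.le) (cm_mono (Subgroup.map_subtype_le _))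
    have h2 : (cm y RG).relIndex (cm y N) = (R : Subgroup N).index := by
      rw [Subgroup.relIndex_map_map_of_injective _ _ (MulAut.conj y).injective, hRG, Subgroup.relIndex,
        Subgroup.subgroupOf, Subgroup.comap_map_eq_self_of_injective N.subtype_injective]
    refine R.not_dvd_index (h2 ▸ hdvd.trans ?_)
    rw [hN']
    exact Subgroup.relIndex_dvd_of_le_left _ (hN' ▸ hle)

theorem lt_inf_normalizer (P : Sylow p G) {T : Subgroup G} (hT : T ≤ (P : Subgroup G)) (hne : T ≠ (P : Subgroup G)) :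
    T < (P : Subgroup G) ⊓ Subgroup.normalizer (T : Set G) := by
  refine lt_of_le_of_ne (le_inf hT Subgroup.le_normalizer) fun h => ?_
  haveI : Group.IsNilpotent (P : Subgroup G) := P.2.isNilpotent
  have hlt : T.subgroupOf (P : Subgroup G) < ⊤ :=
    lt_of_le_of_ne le_top fun e => hne (le_antisymm hT (Subgroup.subgroupOf_eq_top.1 e))
  obtain ⟨x, hx1, hx2⟩ := SetLike.exists_of_lt
    (Group.normalizerCondition_of_isNilpotent (T.subgroupOf (P : Subgroup G)) hlt)
  refine hx2 (Subgroup.mem_subgroupOf.2 (h.ge ⟨x.2, Subgroup.mem_normalizer_iff.2 fun n => ?_⟩))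
  constructor
  · intro hn
    have := (Subgroup.mem_normalizer_iff.1 hx1 ⟨n, hT hn⟩).1 (Subgroup.mem_subgroupOf.2 hn)
    exact Subgroup.mem_subgroupOf.1 this
  · intro hn
    have hnP : n ∈ (P : Subgroup G) := by
      have h1 := mul_mem (mul_mem (inv_mem x.2) (hT hn)) x.2
      rwa [show (x : G)⁻¹ * ((x : G) * n * (x : G)⁻¹) * x = n by group] at h1
    exact Subgroup.mem_subgroupOf.1
      ((Subgroup.mem_normalizer_iff.1 hx1 ⟨n, hnP⟩).2 (Subgroup.mem_subgroupOf.2 hn))

/-- The subgroups arising as `N_P(U)` contain the centre of `P`. -/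
theorem center_le_inf_normalizer {P U : Subgroup G} (hU : U ≤ P) :
    P ⊓ Subgroup.centralizer (P : Set G) ≤ P ⊓ Subgroup.normalizer (U : Set G) := fun z hz =>
  ⟨hz.1, Local.mem_normalizer_of_map_conj_eq (cm_eq_self fun u hu => by rw [← hz.2 u (hU hu), mul_inv_cancel_right])⟩

/-- **From local to global control.** `Good` is a class of fully normalized subgroups meeting every class. -/
theorem chain_of_local (P : Sylow p G) (𝓦 : Set (Subgroup G → Subgroup G)) (Good : Subgroup G → Prop)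
    (hgood : ∀ U ≤ (P : Subgroup G), ∃ y, cm y ((P : Subgroup G) ⊓ Subgroup.normalizer (U : Set G)) ≤ (P : Subgroup G) ∧
      Good (cm y U))
    (hfull : ∀ U ≤ (P : Subgroup G), Good U → Full p (P : Subgroup G) U)
    (hW : ∀ W ∈ 𝓦, ∀ T ≤ (P : Subgroup G), (P : Subgroup G) ⊓ Subgroup.centralizer ((P : Subgroup G) : Set G) ≤ T →
      T ≠ ⊥ → W T ≤ T ∧ W T ≠ ⊥ ∧ (P : Subgroup G) ⊓ Subgroup.normalizer (T : Set G) ≤ Subgroup.normalizer (W T : Set G))
    (hloc : ∀ U ≤ (P : Subgroup G), U ≠ ⊥ → Good U → ∀ A ≤ (P : Subgroup G) ⊓ Subgroup.normalizer (U : Set G),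
      ∀ n ∈ Subgroup.normalizer (U : Set G), cm n A ≤ (P : Subgroup G) ⊓ Subgroup.normalizer (U : Set G) →
      Chain ((P : Subgroup G) ⊓ Subgroup.normalizer (U : Set G))
        ((Subgroup.normalizer (U : Set G) : Set G) ∩ steps 𝓦 ((P : Subgroup G) ⊓ Subgroup.normalizer (U : Set G))) A n)
    {A : Subgroup G} {g : G} (hA : A ≤ (P : Subgroup G)) (hg : cm g A ≤ (P : Subgroup G)) :
    Chain (P : Subgroup G) (steps 𝓦 (P : Subgroup G)) A g := by
  induction hk : Nat.card G - Nat.card A using Nat.strong_induction_on generalizing A g with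
  | h k ih =>
  subst hk
  rcases eq_or_ne A ⊥ with rfl | hA0
  · exact .refl bot_le fun a ha => by simp [Subgroup.mem_bot.1 ha]
  have big : ∀ (B : Subgroup G) (y : G), Nat.card A < Nat.card B → B ≤ (P : Subgroup G) → cm y B ≤ (P : Subgroup G) →
      Chain (P : Subgroup G) (steps 𝓦 (P : Subgroup G)) B y := fun B y hc hB hy =>
    ih _ (by have := Nat.le_of_dvd Nat.card_pos B.card_subgroup_dvd_card; omega) hB hy rfl
  -- maps in the normalizer of a good subgroup
  have R : ∀ m, ∀ U ≤ (P : Subgroup G), U ≠ ⊥ → Good U →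
      Nat.card G - Nat.card ↥((P : Subgroup G) ⊓ Subgroup.normalizer (U : Set G)) = m →
      ∀ V ≤ (P : Subgroup G) ⊓ Subgroup.normalizer (U : Set G), Nat.card V = Nat.card A →
      ∀ n ∈ Subgroup.normalizer (U : Set G), cm n V ≤ (P : Subgroup G) ⊓ Subgroup.normalizer (U : Set G) →
      Chain (P : Subgroup G) (steps 𝓦 (P : Subgroup G)) V n := by
    intro m
    induction m using Nat.strong_induction_on with
    | h m ihm =>
    intro U hU hU0 hUg hm V hV hVA n hn hnV
    set T := (P : Subgroup G) ⊓ Subgroup.normalizer (U : Set G) with hT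
    have hTP : T ≤ (P : Subgroup G) := inf_le_left
    refine (hloc U hU hU0 hUg V hV n hn hnV).bind hTP fun l hl B hBc hBT hlB => ?_
    obtain ⟨hlU, W, hW𝓦, hlW⟩ := hl
    by_cases hTP' : T = (P : Subgroup G)
    · exact .single ⟨W, hW𝓦, by rw [← hTP']; exact hlW⟩ (hBT.trans hTP) (hlB.trans hTP)
    obtain ⟨hWT, hW0, hWn⟩ := hW W hW𝓦 T hTP (center_le_inf_normalizer hU)
      fun h => hU0 (le_bot_iff.1 (h ▸ le_inf hU Subgroup.le_normalizer))
    set U' := W T with hU'
    set T' := (P : Subgroup G) ⊓ Subgroup.normalizer (U' : Set G) with hT'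
    have hlt : T < T' := (lt_inf_normalizer P hTP hTP').trans_le (le_inf inf_le_left hWn)
    have hAT : Nat.card A ≤ Nat.card T := hVA ▸ Subgroup.card_le_of_le hV
    have hltc : Nat.card T < Nat.card T' :=
      lt_of_le_of_ne (Subgroup.card_le_of_le hlt.le) fun h => hlt.ne (Subgroup.eq_of_le_of_card_ge hlt.le h.ge)
    obtain ⟨y, hy, hyg⟩ := hgood U' (hWT.trans hTP)
    have hch : Chain (P : Subgroup G) (steps 𝓦 (P : Subgroup G)) T' y := big T' y (by omega) inf_le_left hy
    have hyT' := cm_inf_normalizer_le y hy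
    set T₂ := (P : Subgroup G) ⊓ Subgroup.normalizer (cm y U' : Set G)
    have hlt2 : Nat.card T < Nat.card T₂ := by
      have := card_cm y T' ▸ Subgroup.card_le_of_le hyT'
      omega
    have hl2 : y * l * y⁻¹ ∈ Subgroup.normalizer (cm y U' : Set G) := by
      refine Local.mem_normalizer_of_map_conj_eq ?_
      show cm (y * l * y⁻¹) (cm y U') = cm y U'
      rw [cm_cm, show y * l * y⁻¹ * y = y * l by group, ← cm_cm]
      exact congrArg (cm y) (Local.map_conj_eq_of_mem_normalizer hlW)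
    have e : cm (y * l * y⁻¹) (cm y B) = cm y (cm l B) := by
      rw [cm_cm, show y * l * y⁻¹ * y = y * l by group, ← cm_cm]
    have hBV : Nat.card B = Nat.card A := hBc.trans hVA
    have hR := ihm (Nat.card G - Nat.card T₂) (by
        have := Nat.le_of_dvd Nat.card_pos T₂.card_subgroup_dvd_card
        omega)
      (cm y U') ((cm_mono (le_inf (hWT.trans hTP) Subgroup.le_normalizer)).trans (hyT'.trans inf_le_left))
      (fun h => hW0 ((Subgroup.map_eq_bot_iff_of_injective U' (MulAut.conj y).injective).1 h)) hyg rfl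
      (cm y B) ((cm_mono (hBT.trans hlt.le)).trans hyT') ((card_cm y B).trans hBV) _ hl2
      (e ▸ (cm_mono (hlB.trans hlt.le)).trans hyT')
    have h1 := (hch.mono (hBT.trans hlt.le)).trans hR
    have h2 := (hch.mono (hlB.trans hlt.le)).inv (steps_inv 𝓦 _)
    rw [show y * l * y⁻¹ * y = y * l by group] at h1
    rw [cm_cm] at h2
    simpa [← mul_assoc] using h1.trans h2
  by_cases hAP : A = (P : Subgroup G)
  · have hgN : g ∈ Subgroup.normalizer (A : Set G) := by
      refine Local.mem_normalizer_of_map_conj_eq (Subgroup.eq_of_le_of_card_ge ?_ (card_cm g A).ge)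
      rw [hAP] at hg ⊢; exact hg
    obtain ⟨y, hy, hyg⟩ := hgood A hA
    have hA' : cm y A = A := Subgroup.eq_of_le_of_card_ge
      (((cm_mono (le_inf hA Subgroup.le_normalizer)).trans hy).trans hAP.ge) (card_cm y A).ge
    rw [hA'] at hyg
    exact R _ A hA hA0 hyg rfl A (le_inf hA Subgroup.le_normalizer) rfl g hgN
      (by rw [show cm g A = A from Local.map_conj_eq_of_mem_normalizer hgN]; exact le_inf hA Subgroup.le_normalizer)
  have hlarge : ∀ C : Subgroup G, C ≤ (P : Subgroup G) → Nat.card C = Nat.card A →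
      Nat.card A < Nat.card ↥((P : Subgroup G) ⊓ Subgroup.normalizer (C : Set G)) := by
    intro C hC hc
    have hne : C ≠ (P : Subgroup G) := fun h => hAP (Subgroup.eq_of_le_of_card_ge hA (by rw [← hc, h]))
    have h := lt_inf_normalizer P hC hne
    rw [← hc]
    exact lt_of_le_of_ne (Subgroup.card_le_of_le h.le) fun e => h.ne (Subgroup.eq_of_le_of_card_ge h.le e.ge)
  obtain ⟨y₁, hy₁, hVg⟩ := hgood A hA
  set V := cm y₁ A with hV
  set TA := (P : Subgroup G) ⊓ Subgroup.normalizer (A : Set G)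
  have hchA : Chain (P : Subgroup G) (steps 𝓦 (P : Subgroup G)) A y₁ :=
    (big TA y₁ (hlarge A hA rfl) inf_le_left hy₁).mono (le_inf hA Subgroup.le_normalizer)
  have hVP : V ≤ (P : Subgroup G) := hchA.image_le
  set TB := (P : Subgroup G) ⊓ Subgroup.normalizer (cm g A : Set G) with hTB
  set z := y₁ * g⁻¹ with hz
  have hzB : cm z (cm g A) = V := by rw [cm_cm, hz, inv_mul_cancel_right]
  obtain ⟨w, hwN, hw⟩ := exists_conj_le (Q := (P : Subgroup G) ⊓ Subgroup.normalizer (V : Set G)) inf_le_right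
    (P.2.to_le inf_le_left) (hfull V hVP hVg) (R := cm z TB)
    (Local.map_conj_le fun x hx => Local.mem_normalizer_of_map_conj_eq (by
      show cm (z * x * z⁻¹) V = V
      rw [← hzB, cm_cm, show z * x * z⁻¹ * z = z * x by group, ← cm_cm]
      exact congrArg (cm z) (Local.map_conj_eq_of_mem_normalizer hx.2)))
    ((P.2.to_le inf_le_left).map _)
  have hwz : cm (w * z) TB ≤ (P : Subgroup G) := by rw [← cm_cm]; exact hw.trans inf_le_left
  have hchB : Chain (P : Subgroup G) (steps 𝓦 (P : Subgroup G)) (cm g A) (w * z) :=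
    (big TB (w * z) (hlarge _ hg (card_cm g A)) inf_le_left hwz).mono (le_inf hg Subgroup.le_normalizer)
  have hwV : cm (w * z) (cm g A) = V := by
    rw [← cm_cm, hzB]; exact Local.map_conj_eq_of_mem_normalizer hwN
  have hVA : Nat.card V = Nat.card A := card_cm y₁ A
  have hRV := R _ V hVP (fun h => hA0 ((Subgroup.map_eq_bot_iff_of_injective A (MulAut.conj y₁).injective).1 h))
    hVg rfl V (le_inf hVP Subgroup.le_normalizer) hVA w hwN
    (by rw [show cm w V = V from Local.map_conj_eq_of_mem_normalizer hwN]; exact le_inf hVP Subgroup.le_normalizer)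
  have h3 := hchB.inv (steps_inv 𝓦 _)
  rw [hwV] at h3
  have h4 : Chain (P : Subgroup G) (steps 𝓦 (P : Subgroup G)) A ((w * z)⁻¹ * (w * y₁)) := by
    refine (hchA.trans hRV).trans ?_
    rw [← cm_cm, show cm w V = V from Local.map_conj_eq_of_mem_normalizer hwN]
    exact h3
  rwa [show (w * z)⁻¹ * (w * y₁) = g by rw [hz]; group] at h4

end CfsgLib.StrongFusion
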