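import Cfsg.Agent.Lib.StrongFusion.Sections
import Cfsg.Agent.Lib.StrongFusion.Stable
import Cfsg.Agent.Lib.QdSection

/-!
Consequences of the section induction for functor families and for `ZJ`.
-/

set_option autoImplicit false
set_option linter.unusedSectionVars false

namespace CfsgLib.StrongFusion

open CfsgLib Cfsg
open scoped Pointwise

universe u

variable {p : ℕ} [Fact p.Prime]

/-- Conjugations are realised by a product from two factors containing the Sylow subgroup. -/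
theorem chain_of_product {X : Type u} [Group X] [Finite X] (T : Sylow p X) {N₁ N₂ : Subgroup X}
    (h1 : (T : Subgroup X) ≤ N₁) (h2 : (T : Subgroup X) ≤ N₂) {S : Set X} (hS1 : ∀ n ∈ N₁, n ∈ S)
    (hS2 : ∀ n ∈ N₂, n ∈ S) (hfac : ∀ x : X, ∃ a ∈ N₁, ∃ b ∈ N₂, x = a * b) {A : Subgroup X}
    (hA : A ≤ (T : Subgroup X)) {x : X} (hx : cm x A ≤ (T : Subgroup X)) : Chain (T : Subgroup X) S A x := by
  obtain ⟨a, ha, b, hb, rfl⟩ := hfac x
  have hB : cm b A ≤ N₁ ⊓ N₂ := by
    rintro _ ⟨y, hy, rfl⟩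
    refine Subgroup.mem_inf.2 ⟨?_, mul_mem (mul_mem hb (h2 (hA hy))) (inv_mem hb)⟩
    show b * y * b⁻¹ ∈ N₁
    rw [show b * y * b⁻¹ = a⁻¹ * (a * b * y * (a * b)⁻¹) * a by group]
    exact mul_mem (mul_mem (inv_mem ha) (h1 (hx (conj_mem_cm hy)))) ha
  obtain ⟨h, hh, hhB⟩ := exists_conj_le (Q := (T : Subgroup X)) (le_inf h1 h2) T.2
    (fun hd => T.not_dvd_index (hd.trans (Subgroup.relIndex_dvd_index_of_le (le_inf h1 h2))))
    hB ((T.2.to_le hA).map _)
  rw [cm_cm] at hhB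
  have s1 : Chain (T : Subgroup X) S A (h * b) :=
    .single (hS2 _ (mul_mem hh.2 hb)) hA hhB
  have s2 : Chain (T : Subgroup X) S (cm (h * b) A) (a * h⁻¹) :=
    .single (hS1 _ (mul_mem ha (inv_mem hh.1))) hhB (by
      rw [cm_cm, show a * h⁻¹ * (h * b) = a * b by group]; exact hx)
  have s3 := s1.trans s2
  rwa [show a * h⁻¹ * (h * b) = a * b by group] at s3

theorem steps_famAt_self {X : Type u} [Group X] {𝔚 : Set (∀ (Q : Type u) [Group Q], Subgroup Q)} {T : Subgroup X} :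
    steps (famAt 𝔚 T) T = steps ((fun W => inducedFunctor (G := X) W) '' 𝔚) T := by
  ext n
  rw [mem_steps_famAt, inf_idem]
  constructor
  · rintro ⟨W, hW, hn⟩
    exact ⟨_, ⟨W, hW, rfl⟩, hn⟩
  · rintro ⟨_, ⟨W, hW, rfl⟩, hn⟩
    exact ⟨W, hW, hn⟩

/-- Control transported along an isomorphism. -/
theorem ctrl_of_equiv {X Y : Type u} [Group X] [Group Y] [Finite X] [Finite Y]
    {𝔚 : Set (∀ (Q : Type u) [Group Q], Subgroup Q)} (h𝔚 : ∀ W ∈ 𝔚, IsCharPFunctor p W) (e : X ≃* Y)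
    {T : Sylow p Y} {D : Subgroup Y} (hD : D ≤ (T : Subgroup Y))
    (h : ∀ T' : Sylow p X, (T' : Subgroup X) = (T : Subgroup Y).map e.symm.toMonoidHom →
      Ctrl 𝔚 T' (D.map e.symm.toMonoidHom)) : Ctrl 𝔚 T D := by
  intro A g hA hg
  set T' : Sylow p X := T.mapSurjective (f := e.symm.toMonoidHom) e.symm.surjective
  have hc := h T' rfl (A.map e.symm.toMonoidHom) (e.symm g) (Subgroup.map_mono hA) (by
    rw [← MulEquiv.coe_toMonoidHom, ← map_cm]; exact Subgroup.map_mono hg)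
  have hback : ∀ S : Subgroup Y, (S.map e.symm.toMonoidHom).map e.toMonoidHom = S := fun S => by
    rw [Subgroup.map_map, show e.toMonoidHom.comp e.symm.toMonoidHom = MonoidHom.id Y from
      MonoidHom.ext fun y => e.apply_symm_apply y, Subgroup.map_id]
  have h1 := hc.map (S' := steps (famAt 𝔚 D) (T : Subgroup Y)) e.toMonoidHom fun n hn => by
    obtain ⟨W, hW, hnW⟩ := mem_steps_famAt.1 hn
    refine mem_steps_famAt.2 ⟨W, hW, ?_⟩
    rw [inf_eq_left.2 hD]
    rw [show D.map e.symm.toMonoidHom ⊓ (T' : Subgroup X) = D.map e.symm.toMonoidHom from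
      inf_eq_left.2 (Subgroup.map_mono hD), inducedFunctor_map (h𝔚 W hW) e.symm.toMonoidHom (T.2.to_le hD)
        e.symm.injective.injOn] at hnW
    have h2 := Subgroup.le_normalizer_map e.toMonoidHom ⟨n, hnW, rfl⟩
    rwa [hback] at h2
  rwa [show (T' : Subgroup X) = (T : Subgroup Y).map e.symm.toMonoidHom from rfl, hback, hback,
    MulEquiv.coe_toMonoidHom, e.apply_symm_apply] at h1

theorem constrained_of_equiv {X Y : Type*} [Group X] [Group Y] [Finite X] (e : X ≃* Y)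
    (h : Subgroup.centralizer (pCore p Y : Set Y) ≤ pCore p Y) :
    Subgroup.centralizer (pCore p X : Set X) ≤ pCore p X := by
  intro x hx
  have h1 : e x ∈ pCore p Y := h (by
    intro y hy
    obtain ⟨z, hz, rfl⟩ := (pCore_map_equiv p e).ge hy
    show e z * e x = e x * e z
    rw [← map_mul, ← map_mul, hx z hz])
  obtain ⟨z, hz, hze⟩ := (pCore_map_equiv p e).ge h1
  rwa [← e.injective (show e z = e x from hze)]

/-- The printed hypothesis on constrained sections gives `Base`. -/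
theorem base_of_sections {G : Type u} [Group G] [Finite G] {𝔚 : Set (∀ (Q : Type u) [Group Q], Subgroup Q)}
    (h𝔚 : ∀ W ∈ 𝔚, IsCharPFunctor p W) (full : Prop)
    (h : ∀ (K R : Subgroup G) [hR : (R.subgroupOf K).Normal],
      Subgroup.centralizer (pCore p (K ⧸ R.subgroupOf K) : Set (K ⧸ R.subgroupOf K)) ≤ pCore p (K ⧸ R.subgroupOf K) →
      ∀ (T : Sylow p (K ⧸ R.subgroupOf K)) (D : Subgroup (K ⧸ R.subgroupOf K)),
        IsStronglyClosed D (T : Subgroup (K ⧸ R.subgroupOf K)) → (full → D = (T : Subgroup (K ⧸ R.subgroupOf K))) →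
        Ctrl 𝔚 T D) : Base p 𝔚 full G := by
  intro Y _ _ hY hcon T D hD hfull
  obtain ⟨K, R, hR, ⟨e⟩⟩ := hY
  refine ctrl_of_equiv h𝔚 e hD.1 fun T' hT' => h K R (constrained_of_equiv e hcon) T' _ ?_ ?_
  · refine ⟨by rw [hT']; exact Subgroup.map_mono hD.1, ?_⟩
    rintro _ ⟨d, hd, rfl⟩ x hx
    rw [hT'] at hx
    obtain ⟨t, ht, hte⟩ := hx
    refine ⟨e x * d * (e x)⁻¹, hD.2 d hd (e x) ?_, by simp⟩
    have h1 : t = e x * d * (e x)⁻¹ := e.symm.injective (by simpa using hte)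
    exact h1 ▸ ht
  · exact fun hf => by rw [hfull hf, hT']

/-- The printed family hypothesis gives control in a constrained section. -/
theorem ctrl_of_family {X : Type u} [Group X] [Finite X] {𝔚 : Set (∀ (Q : Type u) [Group Q], Subgroup Q)}
    (h𝔚 : ∀ W ∈ 𝔚, IsCharPFunctor p W)
    (h : FamilyControlsStrongFusionIn p ((fun W => inducedFunctor (G := X) W) '' 𝔚) ⊤) (T : Sylow p X) :
    Ctrl 𝔚 T (T : Subgroup X) := by
  intro A g hA hg
  rw [steps_famAt_self]
  refine (chain_of_family (by rintro _ ⟨W, hW, rfl⟩; exact isConjugacyFunctor_induced (h𝔚 W hW)) h le_top T.2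
    (by rw [Subgroup.relIndex_top_right]; exact T.not_dvd_index) hA trivial hg).bind le_rfl
    fun n hn B _ hB hnB => .single hn.2 hB hnB

/-- Sections of sections. -/
theorem involves_of_section {G : Type u} [Group G] (K R : Subgroup G) [(R.subgroupOf K).Normal] {Z : Type u} [Group Z]
    (h : Involves Z (K ⧸ R.subgroupOf K)) : Involves Z G :=
  involves_of_injective K.subtype K.subtype_injective
    (involves_of_quotientHom (QuotientGroup.mk' (R.subgroupOf K)) (QuotientGroup.mk'_surjective _) h)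

/-- The functor `Q ↦ Φ (Z(J_e(Q)))`. -/
def zjFunctor (e : ℕ) (Φ : ∀ {Q : Type u} [Group Q], Subgroup Q → Subgroup Q) :
    ∀ (Q : Type u) [Group Q], Subgroup Q := fun Q _ => Φ (ZJ.zj e (⊤ : Subgroup Q))

/-- `Z(J(P))` as an isomorphism-invariant functor. -/
def zjA : ∀ (Q : Type u) [Group Q], Subgroup Q := fun Q _ => ZJ.zj 0 (⊤ : Subgroup Q)

/-- `Ω₁(Z(J_e(P)))` as an isomorphism-invariant functor. -/
def zjE (p : ℕ) : ∀ (Q : Type u) [Group Q], Subgroup Q := fun Q _ => omegaOne p (ZJ.zj p (⊤ : Subgroup Q))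

/-- `Z(J_e(P))` as an isomorphism-invariant functor. -/
def zjP (p : ℕ) : ∀ (Q : Type u) [Group Q], Subgroup Q := fun Q _ => ZJ.zj p (⊤ : Subgroup Q)

theorem map_omegaOne {X Y : Type*} [Group X] [Group Y] (f : X →* Y) (hf : Function.Injective f) (H : Subgroup X) :
    (omegaOne p H).map f = omegaOne p (H.map f) := by
  rw [omegaOne, omegaOne, MonoidHom.map_closure]
  congr 1
  ext y
  constructor
  · rintro ⟨x, ⟨hx, hxp⟩, rfl⟩
    exact ⟨⟨x, hx, rfl⟩, by rw [← map_pow, hxp, map_one]⟩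
  · rintro ⟨⟨x, hx, rfl⟩, hxp⟩
    exact ⟨x, ⟨hx, hf (by rw [map_pow, hxp, map_one])⟩, rfl⟩

theorem isCharPFunctor_zjA : IsCharPFunctor p (zjA : ∀ (Q : Type u) [Group Q], Subgroup Q) := by
  refine ⟨fun Q _ _ hQ hnt => ZJ.zj_ne_bot (p := p) (Or.inl rfl) (hQ.of_equiv Subgroup.topEquiv.symm) top_ne_bot,
    fun Q R _ _ _ hQ φ => ?_⟩
  show (ZJ.zj 0 (⊤ : Subgroup Q)).map φ.toMonoidHom = ZJ.zj 0 (⊤ : Subgroup R)
  rw [← ZJ.zj_map 0 (f := φ.toMonoidHom) φ.injective, Subgroup.map_top_of_surjective _ φ.surjective]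

theorem isCharPFunctor_zjE : IsCharPFunctor p (zjE p : ∀ (Q : Type u) [Group Q], Subgroup Q) := by
  refine ⟨fun Q _ _ hQ hnt => omegaOne_ne_bot ((hQ.of_equiv Subgroup.topEquiv.symm).to_le le_top)
    (ZJ.zj_ne_bot (p := p) (Or.inr rfl) (hQ.of_equiv Subgroup.topEquiv.symm) top_ne_bot), fun Q R _ _ _ hQ φ => ?_⟩
  show (omegaOne p (ZJ.zj p (⊤ : Subgroup Q))).map φ.toMonoidHom = omegaOne p (ZJ.zj p (⊤ : Subgroup R))
  rw [map_omegaOne _ φ.injective, ← ZJ.zj_map p (f := φ.toMonoidHom) φ.injective,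
    Subgroup.map_top_of_surjective _ φ.surjective]

theorem isCharPFunctor_zjP : IsCharPFunctor p (zjP p : ∀ (Q : Type u) [Group Q], Subgroup Q) := by
  refine ⟨fun Q _ _ hQ hnt => ZJ.zj_ne_bot (p := p) (Or.inr rfl) (hQ.of_equiv Subgroup.topEquiv.symm) top_ne_bot,
    fun Q R _ _ _ hQ φ => ?_⟩
  show (ZJ.zj p (⊤ : Subgroup Q)).map φ.toMonoidHom = ZJ.zj p (⊤ : Subgroup R)
  rw [← ZJ.zj_map p (f := φ.toMonoidHom) φ.injective, Subgroup.map_top_of_surjective _ φ.surjective]

theorem inducedFunctor_zjP {X : Type u} [Group X] [Finite X] (T : Subgroup X) :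
    inducedFunctor (zjP p) T = centerThompsonOf p T := by
  show (ZJ.zj p (⊤ : Subgroup T)).map T.subtype = _
  rw [← ZJ.zj_map p T.subtype_injective, ← MonoidHom.range_eq_map, Subgroup.range_subtype, ZJ.zj_prime]

theorem inducedFunctor_zjA {X : Type u} [Group X] [Finite X] (T : Subgroup X) :
    inducedFunctor zjA T = centerThompsonAOf T := by
  show (ZJ.zj 0 (⊤ : Subgroup T)).map T.subtype = _
  rw [← ZJ.zj_map 0 T.subtype_injective, ← MonoidHom.range_eq_map, Subgroup.range_subtype, ZJ.zj_zero]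

theorem inducedFunctor_zjE {X : Type u} [Group X] [Finite X] (T : Subgroup X) :
    inducedFunctor (zjE p) T = omegaOne p (centerThompsonOf p T) := by
  show (omegaOne p (ZJ.zj p (⊤ : Subgroup T))).map T.subtype = _
  rw [map_omegaOne _ T.subtype_injective, ← ZJ.zj_map p T.subtype_injective, ← MonoidHom.range_eq_map,
    Subgroup.range_subtype, ZJ.zj_prime]

/-- In a constrained `Qd(p)`-free group the ZJ functors control fusion trivially. -/
theorem base_zj {G : Type u} [Group G] [Finite G] (hp : p ≠ 2) (hqd : ¬ Involves (Cfsg.qd p) G)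
    {W : ∀ (Q : Type u) [Group Q], Subgroup Q} (hW : W = zjA ∨ W = zjE p ∨ W = zjP p) (full : Prop) :
    Base p {W} full G := by
  intro Y _ _ hY hcon T D hD _ A g hA hg
  have hfree : ¬ Involves (Cfsg.qd p) Y := by
    intro h
    apply hqd
    obtain ⟨K, R, hR, ⟨e⟩⟩ := hY
    refine Quadratic.involves_section K R ?_
    obtain ⟨A, B, hB, ⟨e'⟩⟩ := h
    obtain ⟨f, hf⟩ := Quadratic.exists_surjective_map e.symm.toMonoidHom e.symm.injective
      (e'.toMonoidHom.comp (QuotientGroup.mk' (B.subgroupOf A))) (e'.surjective.comp (QuotientGroup.mk'_surjective _))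
    exact QdSection.involves_of_surjective _ f hf
  have hst := Quadratic.quadStable_of_isNormalizerPStable (Quadratic.isNormalizerPStable_of_free hp hfree)
  refine .single (mem_steps_famAt.2 ⟨W, rfl, ?_⟩) hA hg
  rw [inf_eq_left.2 hD.1]
  rcases hW with rfl | rfl | rfl
  · rw [inducedFunctor_zjA, ← ZJ.zj_zero]
    haveI := ZJ.zj_normal_of_closed hp (Or.inl rfl) hcon hst T D hD
    rw [Subgroup.normalizer_eq_top]
    trivial
  · rw [inducedFunctor_zjE, ← ZJ.zj_prime]
    haveI := ZJ.zj_normal_of_closed hp (Or.inr rfl) hcon hst T D hD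
    refine normalizer_le_normalizer_omegaOne _ ?_
    rw [Subgroup.normalizer_eq_top]
    trivial
  · rw [inducedFunctor_zjP, ← ZJ.zj_prime]
    haveI := ZJ.zj_normal_of_closed hp (Or.inr rfl) hcon hst T D hD
    rw [Subgroup.normalizer_eq_top]
    trivial

/-- `N(W(D))` controls strong fusion when `G` is `Qd(p)`-free. -/
theorem controlsOf_zj {G : Type u} [Group G] [Finite G] (hp : p ≠ 2) (hqd : ¬ Involves (Cfsg.qd p) G)
    {W : ∀ (Q : Type u) [Group Q], Subgroup Q} (hW : W = zjA ∨ W = zjE p ∨ W = zjP p) (P : Sylow p G) {D : Subgroup G}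
    (hD : IsStronglyClosed D (P : Subgroup G)) {A : Set G} (hA : A ⊆ (P : Subgroup G)) :
    ControlsStrongFusionOf (Subgroup.normalizer (inducedFunctor W D : Set G)) (P : Subgroup G) A := by
  have h𝔚 : ∀ W' ∈ ({W} : Set (∀ (Q : Type u) [Group Q], Subgroup Q)), IsCharPFunctor p W' := by
    rintro W' rfl
    rcases hW with rfl | rfl | rfl
    exacts [isCharPFunctor_zjA, isCharPFunctor_zjE, isCharPFunctor_zjP]
  refine controlsOf_of_chain P ?_ (fun B g hB hg =>
    ctrl_of_base {W} False h𝔚 (base_zj hp hqd hW False) P D hD False.elim B g hB hg) hA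
  intro n hn
  obtain ⟨W', rfl, hn'⟩ := mem_steps_famAt.1 hn
  show n ∈ Subgroup.normalizer _
  rwa [inf_eq_left.2 hD.1] at hn'

end CfsgLib.StrongFusion
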