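import Cfsg.Agent.Lib.StrongFusion.Local
import Cfsg.Agent.Lib.AbelianOffender
import Cfsg.Prelude.Def_TwoFusion

/-!
A strongly closed abelian subgroup controls strong fusion.
-/

set_option autoImplicit false
set_option linter.unusedSectionVars false

namespace CfsgLib.StrongFusion

open CfsgLib Cfsg
open scoped Pointwise

variable {G : Type*} [Group G] [Finite G] {p : ℕ} [Fact p.Prime]

/-- Maps on every fully normalized subgroup, realised by chains, give all conjugations. -/
theorem chain_of_automizers (P : Sylow p G) (S : Set G) (hS : ∀ n ∈ S, n⁻¹ ∈ S)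
    (haut : ∀ V ≤ (P : Subgroup G), Full p (P : Subgroup G) V →
      (∀ (B : Subgroup G) (y : G), Nat.card V < Nat.card B → B ≤ (P : Subgroup G) → cm y B ≤ (P : Subgroup G) →
        Chain (P : Subgroup G) S B y) →
      ∀ n ∈ Subgroup.normalizer (V : Set G), Chain (P : Subgroup G) S V n)
    {A : Subgroup G} {g : G} (hA : A ≤ (P : Subgroup G)) (hg : cm g A ≤ (P : Subgroup G)) :
    Chain (P : Subgroup G) S A g := by
  induction hk : Nat.card G - Nat.card A using Nat.strong_induction_on generalizing A g with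
  | h k ih =>
  subst hk
  have big : ∀ (B : Subgroup G) (y : G), Nat.card A < Nat.card B → B ≤ (P : Subgroup G) → cm y B ≤ (P : Subgroup G) →
      Chain (P : Subgroup G) S B y := fun B y hc hB hy =>
    ih _ (by have := Nat.le_of_dvd Nat.card_pos B.card_subgroup_dvd_card; omega) hB hy rfl
  by_cases hAP : A = (P : Subgroup G)
  · refine haut A hA ?_ big g (Local.mem_normalizer_of_map_conj_eq
      (Subgroup.eq_of_le_of_card_ge (hg.trans hAP.ge) (card_cm g A).ge))
    intro h
    subst hAP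
    exact P.not_dvd_index (h.trans ((Subgroup.relIndex_dvd_of_le_left _ (le_inf le_rfl Subgroup.le_normalizer)).trans
      (Subgroup.relIndex_dvd_index_of_le Subgroup.le_normalizer)))
  have hlarge : ∀ C : Subgroup G, C ≤ (P : Subgroup G) → Nat.card C = Nat.card A →
      Nat.card A < Nat.card ↥((P : Subgroup G) ⊓ Subgroup.normalizer (C : Set G)) := by
    intro C hC hc
    have hne : C ≠ (P : Subgroup G) := fun h => hAP (Subgroup.eq_of_le_of_card_ge hA (by rw [← hc, h]))
    have h := lt_inf_normalizer P hC hne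
    rw [← hc]
    exact lt_of_le_of_ne (Subgroup.card_le_of_le h.le) fun e => h.ne (Subgroup.eq_of_le_of_card_ge h.le e.ge)
  obtain ⟨y₁, hy₁, hVg⟩ := exists_full P hA
  set V := cm y₁ A with hV
  have hchA : Chain (P : Subgroup G) S A y₁ :=
    (big _ y₁ (hlarge A hA rfl) inf_le_left hy₁).mono (le_inf hA Subgroup.le_normalizer)
  have hVP : V ≤ (P : Subgroup G) := hchA.image_le
  set TB := (P : Subgroup G) ⊓ Subgroup.normalizer (cm g A : Set G) with hTB
  set z := y₁ * g⁻¹ with hz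
  have hzB : cm z (cm g A) = V := by rw [cm_cm, hz, inv_mul_cancel_right]
  obtain ⟨w, hwN, hw⟩ := exists_conj_le (Q := (P : Subgroup G) ⊓ Subgroup.normalizer (V : Set G)) inf_le_right
    (P.2.to_le inf_le_left) hVg (R := cm z TB)
    (Local.map_conj_le fun x hx => Local.mem_normalizer_of_map_conj_eq (by
      show cm (z * x * z⁻¹) V = V
      rw [← hzB, cm_cm, show z * x * z⁻¹ * z = z * x by group, ← cm_cm]
      exact congrArg (cm z) (Local.map_conj_eq_of_mem_normalizer hx.2)))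
    ((P.2.to_le inf_le_left).map _)
  have hwz : cm (w * z) TB ≤ (P : Subgroup G) := by rw [← cm_cm]; exact hw.trans inf_le_left
  have hchB : Chain (P : Subgroup G) S (cm g A) (w * z) :=
    (big TB (w * z) (hlarge _ hg (card_cm g A)) inf_le_left hwz).mono (le_inf hg Subgroup.le_normalizer)
  have hwV : cm (w * z) (cm g A) = V := by
    rw [← cm_cm, hzB]; exact Local.map_conj_eq_of_mem_normalizer hwN
  have hRV := haut V hVP hVg (fun B y hc => big B y ((card_cm y₁ A).symm.trans_lt hc)) w hwN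
  have h3 := hchB.inv hS
  rw [hwV] at h3
  have h4 : Chain (P : Subgroup G) S A ((w * z)⁻¹ * (w * y₁)) := by
    refine (hchA.trans hRV).trans ?_
    rw [← cm_cm, show cm w V = V from Local.map_conj_eq_of_mem_normalizer hwN]
    exact h3
  rwa [show (w * z)⁻¹ * (w * y₁) = g by rw [hz]; group] at h4

/-- A strongly closed abelian subgroup controls strong fusion. -/
theorem chain_of_abelian_closed (P : Sylow p G) {D : Subgroup G} (hD : IsMulCommutative ↥D)
    (hsc : IsStronglyClosed D (P : Subgroup G)) {A : Subgroup G} {g : G} (hA : A ≤ (P : Subgroup G))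
    (hg : cm g A ≤ (P : Subgroup G)) :
    Chain (P : Subgroup G) (Subgroup.normalizer (D : Set G) : Set G) A g := by
  refine chain_of_automizers P _ (fun n hn => inv_mem hn) (fun V hV hVf big x hx => ?_) hA hg
  set N := Subgroup.normalizer (V : Set G) with hN
  set B := D ⊓ V with hB
  have hnv : ∀ {y : G}, y ∈ N → ∀ v ∈ V, y * v * y⁻¹ ∈ V := fun hy v hv =>
    (Subgroup.mem_normalizer_iff.1 hy v).1 hv
  have hBn : ∀ {y : G}, y ∈ N → ∀ b ∈ B, y * b * y⁻¹ ∈ B := fun {y} hy b hb =>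
    ⟨hsc.2 b hb.1 y (hV (hnv hy b hb.2)), hnv hy b hb.2⟩
  -- the stabilizer of the series
  let C : Subgroup G :=
    { carrier := {y | y ∈ N ∧ (∀ b ∈ B, y * b = b * y) ∧ ∀ v ∈ V, y * v * y⁻¹ * v⁻¹ ∈ B}
      one_mem' := ⟨N.one_mem, fun b _ => by simp, fun v _ => by simp [B.one_mem]⟩
      mul_mem' := by
        rintro y z ⟨hy, hy1, hy2⟩ ⟨hz, hz1, hz2⟩
        refine ⟨N.mul_mem hy hz, fun b hb => by rw [mul_assoc, hz1 b hb, ← mul_assoc, hy1 b hb, mul_assoc], fun v hv => ?_⟩
        rw [show y * z * v * (y * z)⁻¹ * v⁻¹ =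
          (y * (z * v * z⁻¹ * v⁻¹) * y⁻¹) * (y * v * y⁻¹ * v⁻¹) by group]
        exact B.mul_mem (hBn hy _ (hz2 v hv)) (hy2 v hv)
      inv_mem' := by
        rintro y ⟨hy, hy1, hy2⟩
        refine ⟨N.inv_mem hy, fun b hb => ?_, fun v hv => ?_⟩
        · calc y⁻¹ * b = y⁻¹ * (b * y) * y⁻¹ := by group
            _ = y⁻¹ * (y * b) * y⁻¹ := by rw [hy1 b hb]
            _ = b * y⁻¹ := by group
        · rw [show y⁻¹ * v * y⁻¹⁻¹ * v⁻¹ = (y * (y⁻¹ * v * y) * y⁻¹ * (y⁻¹ * v * y)⁻¹)⁻¹ by group]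
          exact B.inv_mem (hy2 _ (by simpa using hnv (N.inv_mem hy) v hv)) }
  have hCn : ∀ y ∈ N, ∀ c ∈ C, y * c * y⁻¹ ∈ C := by
    rintro y hy c ⟨hc, hc1, hc2⟩
    refine ⟨N.mul_mem (N.mul_mem hy hc) (N.inv_mem hy), fun b hb => ?_, fun v hv => ?_⟩
    · have e := hc1 _ (hBn (N.inv_mem hy) b hb)
      calc y * c * y⁻¹ * b = y * (c * (y⁻¹ * b * y⁻¹⁻¹)) * y⁻¹ := by group
        _ = y * ((y⁻¹ * b * y⁻¹⁻¹) * c) * y⁻¹ := by rw [e]
        _ = b * (y * c * y⁻¹) := by group
    · have h1 := hBn hy _ (hc2 _ (hnv (N.inv_mem hy) v hv))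
      rwa [show y * (c * (y⁻¹ * v * y⁻¹⁻¹) * c⁻¹ * (y⁻¹ * v * y⁻¹⁻¹)⁻¹) * y⁻¹ =
        y * c * y⁻¹ * v * (y * c * y⁻¹)⁻¹ * v⁻¹ by group] at h1
  set T := (P : Subgroup G) ⊓ N with hT
  set R := T ⊓ C with hR
  -- `R` is a Sylow subgroup of `C`
  obtain ⟨Q⟩ := (inferInstance : Nonempty (Sylow p C))
  set QG := (Q : Subgroup C).map C.subtype with hQG
  obtain ⟨l, hlN, hl⟩ := exists_conj_le (Q := T) inf_le_right (P.2.to_le inf_le_left) hVf (R := QG)
    ((Subgroup.map_subtype_le _).trans fun y hy => hy.1) (Q.2.map _)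
  have hlR : cm l QG ≤ R := by
    refine le_inf hl ?_
    rintro _ ⟨q, hq, rfl⟩
    exact hCn l hlN q (Subgroup.map_subtype_le _ hq)
  have hRidx : ¬ p ∣ R.relIndex C := by
    intro h
    refine Q.not_dvd_index ?_
    have h2 : QG.relIndex C = (Q : Subgroup C).index := by
      rw [hQG, Subgroup.relIndex, Subgroup.subgroupOf, Subgroup.comap_map_eq_self_of_injective C.subtype_injective]
    rw [← h2]
    have h3 : (cm l QG).relIndex C = QG.relIndex C := by
      have hlC : cm l C = C := Subgroup.eq_of_le_of_card_ge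
        (Local.map_conj_le fun y hy => hCn l hlN y hy) (card_cm l C).ge
      conv_lhs => rw [← hlC]
      exact Subgroup.relIndex_map_map_of_injective _ _ (MulAut.conj l).injective
    rw [← h3]
    exact h.trans (Subgroup.relIndex_dvd_of_le_left _ hlR)
  obtain ⟨w, hwC, hw⟩ := exists_conj_le (Q := R) inf_le_right (P.2.to_le (inf_le_left.trans inf_le_left)) hRidx
    (R := cm x R) (Local.map_conj_le fun y hy => hCn x hx y hy.2) ((P.2.to_le (inf_le_left.trans inf_le_left)).map _)
  -- `w` is a product of an element centralising `V` and one of `R`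
  obtain ⟨e, he⟩ := (P.2.to_le hV).exists_card_eq
  set Cs := (Subgroup.centralizer (V : Set G)).subgroupOf C
  haveI : Cs.Normal := ⟨fun c hc y => by
    rw [Subgroup.mem_subgroupOf] at hc ⊢
    intro v hv
    have h1 := hc _ (hnv (N.inv_mem y.2.1) v hv)
    calc v * ((y : G) * c * (y : G)⁻¹) = (y : G) * (((y : G)⁻¹ * v * (y : G)⁻¹⁻¹) * c) * (y : G)⁻¹ := by group
      _ = (y : G) * ((c : G) * ((y : G)⁻¹ * v * (y : G)⁻¹⁻¹)) * (y : G)⁻¹ := by rw [h1]
      _ = (y : G) * c * (y : G)⁻¹ * v := by group⟩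
  have hres : pResidual p C ≤ Cs := by
    refine pResidual_le fun c hc => ?_
    rw [Subgroup.mem_subgroupOf]
    intro v hv
    set d := (c : G) * v * (c : G)⁻¹ * v⁻¹ with hd
    have hdB : d ∈ B := c.2.2.2 v hv
    have hfix : (c : G) * d * (c : G)⁻¹ = d := by rw [c.2.2.1 d hdB, mul_inv_cancel_right]
    have h1 := AbelianOffender.conj_pow_eq (g := (c : G)) (v := v) (d := d) (by rw [hd]; group) hfix (orderOf c)
    rw [← Subgroup.coe_pow, pow_orderOf_eq_one, Subgroup.coe_one, one_mul, inv_one, mul_one, eq_comm,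
      mul_eq_right] at h1
    have hdp : d ^ p ^ e = 1 := orderOf_dvd_iff_pow_eq_one.1 (he ▸ Subgroup.orderOf_dvd_natCard V hdB.2)
    have h2 := pow_gcd_eq_one.mpr ⟨h1, hdp⟩
    rw [(hc.pow_right e : (orderOf c).Coprime (p ^ e)), pow_one, hd, mul_inv_eq_one, mul_inv_eq_iff_eq_mul] at h2
    exact h2.symm
  have hsup := sylow_sup_eq_top_of_pResidual_le
    (((P.2.to_le (inf_le_left.trans inf_le_left) : IsPGroup p R)).of_equiv
      (Subgroup.subgroupOfEquivOfLe (inf_le_right : R ≤ C)).symm |>.toSylow hRidx) hres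
  obtain ⟨u, hu, s, hs, hus⟩ := Subgroup.mem_sup_of_normal_left.1
    (hsup ▸ Subgroup.mem_top (⟨w, hwC⟩ : C))
  have hus' : w = (u : G) * (s : G) := (congrArg Subtype.val hus).symm
  set m := (w * x) with hm
  have hmN : m ∈ N := N.mul_mem hwC.1 hx
  have hsR : (s : G) ∈ R := hs
  have hmR : cm m R = R := Subgroup.eq_of_le_of_card_ge (by rw [hm, ← cm_cm]; exact hw) (card_cm m R).ge
  set m' := (s : G)⁻¹ * m with hm'
  have hm'R : cm m' R = R := by
    rw [hm', ← cm_cm, hmR]
    exact Local.map_conj_eq_of_mem_normalizer (inv_mem (Subgroup.le_normalizer hsR))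
  have hm'V : cm m' V = V :=
    Local.map_conj_eq_of_mem_normalizer (N.mul_mem (N.inv_mem hsR.1.2) hmN)
  have hagree : ∀ v ∈ V, x * v * x⁻¹ = m' * v * m'⁻¹ := by
    intro v hv
    set v' := (s : G)⁻¹ * (u : G)⁻¹ * (w * x * v * (w * x)⁻¹) * u * s with hv'
    have h1 : x * v * x⁻¹ = v' := by rw [hv', hus']; group
    have hz : w * x * v * (w * x)⁻¹ ∈ V := hnv hmN v hv
    have h2 : (u : G)⁻¹ * (w * x * v * (w * x)⁻¹) * u = w * x * v * (w * x)⁻¹ := by
      rw [mul_assoc, (Subgroup.mem_subgroupOf.1 hu) _ hz, inv_mul_cancel_left]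
    rw [h1, hv', mul_assoc (s : G)⁻¹ (u : G)⁻¹, mul_assoc (s : G)⁻¹, h2, hm', hm]
    group
  refine Chain.congr ?_ hagree
  by_cases hRV : R ≤ V
  · -- then `D ≤ V`
    have hDT : D ⊓ T ≤ R := by
      refine le_inf inf_le_right fun y hy => ⟨hy.2.2, fun b hb => ?_, fun v hv => ⟨?_, ?_⟩⟩
      · exact congrArg Subtype.val (hD.is_comm.comm ⟨y, hy.1⟩ ⟨b, hb.1⟩)
      · have h1 := hsc.2 _ (D.inv_mem hy.1) v (mul_mem (mul_mem (hV hv) ((P : Subgroup G).inv_mem (hsc.1 hy.1)))
          ((P : Subgroup G).inv_mem (hV hv)))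
        have h2 := D.mul_mem hy.1 h1
        simpa [mul_assoc] using h2
      · exact V.mul_mem (hnv hy.2.2 v hv) (V.inv_mem hv)
    have hDV : D ≤ V := by
      by_contra hDV
      -- `V D` grows inside its normalizer
      have hPD : V ≤ Subgroup.normalizer (D : Set G) := fun v hv =>
        Local.mem_normalizer_of_map_conj_eq (Subgroup.eq_of_le_of_card_ge (Local.map_conj_le fun d hd =>
          hsc.2 d hd v (mul_mem (mul_mem (hV hv) (hsc.1 hd)) (inv_mem (hV hv)))) (card_cm v D).ge)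
      set W := V ⊔ D
      have hWp : IsPGroup p W := P.2.to_le (sup_le hV hsc.1)
      obtain ⟨Ws, hWs⟩ := hWp.exists_le_sylow
      have hne : V ≠ W := fun h => hDV (h ▸ le_sup_right)
      haveI : Group.IsNilpotent W := hWp.isNilpotent
      obtain ⟨y, hy1, hy2⟩ := SetLike.exists_of_lt (Group.normalizerCondition_of_isNilpotent (V.subgroupOf W)
        (lt_of_le_of_ne le_top fun h => hne (le_antisymm le_sup_left (Subgroup.subgroupOf_eq_top.1 h))))
      obtain ⟨v, hv, d, hd, hvd⟩ : ∃ v ∈ V, ∃ d ∈ D, v * d = (y : G) :=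
        Set.mem_mul.1 (show (y : G) ∈ (V : Set G) * (D : Set G) from
          Subgroup.coe_mul_of_left_le_normalizer_right V D hPD ▸ y.2)
      refine hy2 (Subgroup.mem_subgroupOf.2 ?_)
      rw [← hvd]
      refine V.mul_mem hv (hRV (hDT ⟨hd, hsc.1 hd, ?_⟩))
      have hyN : (y : G) ∈ N := Subgroup.mem_normalizer_iff.2 fun z => by
        constructor
        · intro hz
          exact Subgroup.mem_subgroupOf.1
            ((Subgroup.mem_normalizer_iff.1 hy1 ⟨z, le_sup_left (a := V) hz⟩).1 (Subgroup.mem_subgroupOf.2 hz))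
        · intro hz
          have hzW : z ∈ W := by
            have h1 := W.mul_mem (W.mul_mem (W.inv_mem y.2) (le_sup_left (a := V) hz)) y.2
            rwa [show (y : G)⁻¹ * ((y : G) * z * (y : G)⁻¹) * y = z by group] at h1
          exact Subgroup.mem_subgroupOf.1
            ((Subgroup.mem_normalizer_iff.1 hy1 ⟨z, hzW⟩).2 (Subgroup.mem_subgroupOf.2 hz))
      rw [show d = v⁻¹ * (v * d) by group, hvd]
      exact N.mul_mem (N.inv_mem (Subgroup.le_normalizer hv)) hyN
    refine .single ?_ hV (hm'V.le.trans hV)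
    exact Local.mem_normalizer_of_map_conj_eq (Subgroup.eq_of_le_of_card_ge (Local.map_conj_le fun d hd =>
      hsc.2 d hd m' (hV (hm'V.le (conj_mem_cm (hDV hd))))) (card_cm m' D).ge)
  · have hlt : V < V ⊔ R := lt_of_le_of_ne le_sup_left fun h => hRV (h ▸ le_sup_right)
    refine (big (V ⊔ R) m' ?_ (sup_le hV (inf_le_left.trans inf_le_left)) ?_).mono le_sup_left
    · exact lt_of_le_of_ne (Subgroup.card_le_of_le hlt.le) fun h => hlt.ne (Subgroup.eq_of_le_of_card_ge hlt.le h.ge)
    · rw [cm, Subgroup.map_sup]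
      exact sup_le (hm'V.le.trans hV) (hm'R.le.trans (inf_le_left.trans inf_le_left))

end CfsgLib.StrongFusion
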