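import Cfsg.Agent.Lib.StrongFusion.Chain
import Cfsg.Agent.Lib.Basic
import Cfsg.Prelude.Def_ConjugacyFunctors
import Cfsg.Prelude.Def_EvenType

/-!
Local inputs and the printed forms of control of strong fusion.
-/

set_option autoImplicit false
set_option linter.unusedSectionVars false

namespace CfsgLib.StrongFusion

open CfsgLib Cfsg
open scoped Pointwise

variable {G : Type*} [Group G] [Finite G] {p : ℕ} [Fact p.Prime]

/-- A factorization by a normal `p'`-subgroup realises conjugations exactly. -/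
theorem agree_of_factor (T : Sylow p G) (O : Subgroup G) [O.Normal] (hO : (Nat.card O).Coprime p) {N : Subgroup G}
    (hTN : (T : Subgroup G) ≤ N) (hN : O ⊔ N = ⊤) {A : Subgroup G} (hA : A ≤ (T : Subgroup G)) {x : G}
    (hx : cm x A ≤ (T : Subgroup G)) : ∃ n ∈ N, ∀ a ∈ A, n * a * n⁻¹ = x * a * x⁻¹ := by
  obtain ⟨c, hc, n, hn, rfl⟩ := Subgroup.mem_sup_of_normal_left.1 (hN ▸ Subgroup.mem_top x)
  have hB : cm n A ≤ ((T : Subgroup G) ⊔ O) ⊓ N := by
    rintro _ ⟨a, ha, rfl⟩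
    refine ⟨?_, N.mul_mem (N.mul_mem hn (hTN (hA ha))) (N.inv_mem hn)⟩
    show n * a * n⁻¹ ∈ (T : Subgroup G) ⊔ O
    rw [show n * a * n⁻¹ = c⁻¹ * (c * n * a * (c * n)⁻¹) * c by group]
    exact mul_mem (mul_mem (Subgroup.mem_sup_right (inv_mem hc))
      (Subgroup.mem_sup_left (hx (conj_mem_cm ha)))) (Subgroup.mem_sup_right hc)
  obtain ⟨w, ⟨hw, hwN⟩, hwB⟩ := exists_conj_le (Q := (T : Subgroup G)) (le_inf le_sup_left hTN) T.2
    (fun h => T.not_dvd_index (h.trans (Subgroup.relIndex_dvd_index_of_le (le_inf le_sup_left hTN))))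
    hB ((T.2.to_le hA).map _)
  obtain ⟨t, ht, d, hd, rfl⟩ := Subgroup.mem_sup_of_normal_right.1 hw
  have hdN : d ∈ N := by
    rw [show d = t⁻¹ * (t * d) by group]
    exact mul_mem (inv_mem (hTN ht)) hwN
  refine ⟨d * n, mul_mem hdN hn, fun a ha => ?_⟩
  set s := c * n * a * (c * n)⁻¹ with hs
  have hsT : s ∈ (T : Subgroup G) := hx (conj_mem_cm ha)
  set e := d * c⁻¹ with he
  have heO : e ∈ O := mul_mem hd (inv_mem hc)
  have h1 : d * n * a * (d * n)⁻¹ = e * s * e⁻¹ := by rw [he, hs]; group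
  have h2 : e * s * e⁻¹ ∈ (T : Subgroup G) := by
    rw [← h1]
    have h3 := hwB (conj_mem_cm (g := t * d) (conj_mem_cm (g := n) ha))
    have h4 := mul_mem (mul_mem (inv_mem ht) h3) ht
    rwa [show t⁻¹ * (t * d * (n * a * n⁻¹) * (t * d)⁻¹) * t = d * n * a * (d * n)⁻¹ by group] at h4
  have h3 : e * s * e⁻¹ * s⁻¹ ∈ O ⊓ (T : Subgroup G) := by
    refine Subgroup.mem_inf.2 ⟨?_, (T : Subgroup G).mul_mem h2 ((T : Subgroup G).inv_mem hsT)⟩
    rw [show e * s * e⁻¹ * s⁻¹ = e * (s * e⁻¹ * s⁻¹) by group]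
    exact mul_mem heO ((inferInstance : O.Normal).conj_mem _ (inv_mem heO) s)
  have hdis : O ⊓ (T : Subgroup G) = ⊥ := by
    obtain ⟨k, hk⟩ := IsPGroup.iff_card.1 T.2
    refine Subgroup.inf_eq_bot_of_coprime ?_
    rw [hk]
    exact hO.pow_right k
  rw [hdis, Subgroup.mem_bot, mul_inv_eq_one] at h3
  rw [h1, h3]

/-- One step of a chain from a factorization of a subgroup `L`. -/
theorem chain_of_factor {L T N : Subgroup G} {S : Set G} (hTL : T ≤ L) (hT : IsPGroup p T) (hidx : ¬ p ∣ T.relIndex L)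
    (hTN : T ≤ N) (hfac : pPrimeCore p L ⊔ N.subgroupOf L = ⊤) (hS : ∀ n ∈ L, n ∈ N → n ∈ S)
    {A : Subgroup G} (hA : A ≤ T) {x : G} (hxL : x ∈ L) (hx : cm x A ≤ T) : Chain T S A x := by
  set Ts : Sylow p L := (hT.of_equiv (Subgroup.subgroupOfEquivOfLe hTL).symm).toSylow hidx
  obtain ⟨n, hn, he⟩ := agree_of_factor Ts (pPrimeCore p L) (card_pPrimeCore_coprime p)
    (N := N.subgroupOf L) (fun t ht => hTN ht) hfac (A := A.subgroupOf L) (fun a ha => hA ha) (x := ⟨x, hxL⟩)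
    (by rintro _ ⟨a, ha, rfl⟩; exact hx ⟨(a : G), ha, rfl⟩)
  have he' : ∀ a ∈ A, (n : G) * a * (n : G)⁻¹ = x * a * x⁻¹ := fun a ha =>
    congrArg Subtype.val (he ⟨a, hTL (hA ha)⟩ ha)
  exact (Chain.single (hS _ n.2 hn) hA ((cm_congr he').le.trans hx)).congr fun a ha => (he' a ha).symm

theorem chain_of_fin {T : Subgroup G} {S : Set G} {A : Subgroup G} {h : G} (n : ℕ) :
    ∀ c : Fin (n + 1) → G, c 0 = 1 → (∀ i : Fin n, c i.succ * (c i.castSucc)⁻¹ ∈ S) →
      (∀ i : Fin (n + 1), cm (c i) A ≤ T) →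
      (∀ a ∈ A, c (Fin.last n) * a * (c (Fin.last n))⁻¹ = h * a * h⁻¹) → Chain T S A h := by
  intro c h0 hs hT hlast
  have key : ∀ i : Fin (n + 1), Chain T S A (c i) := fun i => by
    induction i using Fin.induction with
    | zero =>
      rw [h0]
      refine .refl ?_ fun a _ => by simp
      have := hT 0
      rwa [h0, cm_one] at this
    | succ i ih =>
      have h1 := ih.trans (Chain.single (hs i) (hT i.castSucc) (by rw [cm_cm, inv_mul_cancel_right]; exact hT i.succ))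
      rwa [inv_mul_cancel_right] at h1
  exact (key _).congr fun a ha => (hlast a ha).symm

theorem normalizer_le_normalizer_of_equivariant {W : Subgroup G → Subgroup G} {T : Subgroup G}
    (h : ∀ g, W (cm g T) = cm g (W T)) :
    Subgroup.normalizer (T : Set G) ≤ Subgroup.normalizer (W T : Set G) := fun g hg =>
  Local.mem_normalizer_of_map_conj_eq (by
    show cm g (W T) = W T
    rw [← h g, show cm g T = T from Local.map_conj_eq_of_mem_normalizer hg])

theorem hW_of_isConjugacyFunctor (P : Sylow p G) {W : Subgroup G → Subgroup G} (hW : IsConjugacyFunctor p W)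
    {T : Subgroup G} (hT : T ≤ (P : Subgroup G)) (hT0 : T ≠ ⊥) :
    W T ≤ T ∧ W T ≠ ⊥ ∧ (P : Subgroup G) ⊓ Subgroup.normalizer (T : Set G) ≤ Subgroup.normalizer (W T : Set G) := by
  obtain ⟨h1, h2, h3⟩ := hW T (P.2.to_le hT)
  exact ⟨h1, h2 hT0, inf_le_right.trans (normalizer_le_normalizer_of_equivariant h3)⟩

/-- Printed form for a set of functors. -/
theorem familyControls_of_chain (P : Sylow p G) {𝓦 : Set (Subgroup G → Subgroup G)}
    (h : ∀ (A : Subgroup G) (g : G), A ≤ (P : Subgroup G) → cm g A ≤ (P : Subgroup G) →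
      Chain (P : Subgroup G) (steps 𝓦 (P : Subgroup G)) A g) :
    FamilyControlsStrongFusionIn p 𝓦 ⊤ := by
  refine ⟨P, le_top, P.2, by rw [Subgroup.relIndex_top_right]; exact P.not_dvd_index, fun A g _ hA hgA => ?_⟩
  obtain ⟨n, c, h0, hs, hT, hl⟩ := (h (Subgroup.closure A) g ((Subgroup.closure_le _).2 hA) (by
    rw [cm, MonoidHom.map_closure]; exact (Subgroup.closure_le _).2 hgA)).exists_fin
  refine ⟨n, c, h0, fun i => ?_, fun i => ?_, fun a ha => hl a (Subgroup.subset_closure ha)⟩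
  · obtain ⟨W, hW, hn⟩ := hs i
    exact ⟨W, hW, Subgroup.mem_top _, hn⟩
  · rintro _ ⟨a, ha, rfl⟩
    exact hT i (conj_mem_cm (Subgroup.subset_closure ha))

/-- Printed form for a single subgroup. -/
theorem controlsOf_of_chain (P : Sylow p G) {S : Set G} {N : Subgroup G} (hS : S ⊆ N)
    (h : ∀ (A : Subgroup G) (g : G), A ≤ (P : Subgroup G) → cm g A ≤ (P : Subgroup G) → Chain (P : Subgroup G) S A g)
    {A : Set G} (hA : A ⊆ (P : Subgroup G)) : ControlsStrongFusionOf N (P : Subgroup G) A := by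
  refine ⟨hA, fun g hgA => ?_⟩
  obtain ⟨x, hx, he⟩ := (h (Subgroup.closure A) g ((Subgroup.closure_le _).2 hA) (by
    rw [cm, MonoidHom.map_closure]; exact (Subgroup.closure_le _).2 hgA)).exists_mem hS
  exact ⟨x, hx, fun a ha => he a (Subgroup.subset_closure ha)⟩

/-- Conjugate a chain. -/
theorem Chain.conj {T : Subgroup G} {S S' : Set G} {A : Subgroup G} {g : G} (m : G)
    (hS : ∀ n ∈ S, m * n * m⁻¹ ∈ S') (h : Chain T S A g) : Chain (cm m T) S' (cm m A) (m * g * m⁻¹) := by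
  induction h with
  | @refl A g hA hg =>
    refine .refl (cm_mono hA) ?_
    rintro _ ⟨a, ha, rfl⟩
    show m * g * m⁻¹ * (m * a * m⁻¹) * (m * g * m⁻¹)⁻¹ = m * a * m⁻¹
    calc _ = m * (g * a * g⁻¹) * m⁻¹ := by group
      _ = _ := by rw [hg a ha]
  | @step A n g hA hn _ ih =>
    rw [show m * (g * n) * m⁻¹ = m * g * m⁻¹ * (m * n * m⁻¹) by group]
    refine .step (cm_mono hA) (hS n hn) ?_
    rwa [cm_cm, show m * n * m⁻¹ * m = m * n by group, ← cm_cm]

/-- Control in a subgroup, moved to a prescribed Sylow subgroup. -/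
theorem chain_of_family {L T : Subgroup G} {𝓦 : Set (Subgroup G → Subgroup G)}
    (h𝓦 : ∀ W ∈ 𝓦, IsConjugacyFunctor p W) (h : FamilyControlsStrongFusionIn p 𝓦 L) (hTL : T ≤ L)
    (hT : IsPGroup p T) (hidx : ¬ p ∣ T.relIndex L) {A : Subgroup G} (hA : A ≤ T) {x : G} (hxL : x ∈ L)
    (hx : cm x A ≤ T) : Chain T ((L : Set G) ∩ steps 𝓦 T) A x := by
  obtain ⟨T₀, hT₀L, hT₀, hidx₀, hctl⟩ := h
  obtain ⟨m, hm, hmT⟩ := exists_conj_le hT₀L hT₀ hidx₀ hTL hT
  obtain ⟨m', hm', hmT'⟩ := exists_conj_le hTL hT hidx hT₀L hT₀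
  have hcard : Nat.card T = Nat.card T₀ := le_antisymm (card_cm m T ▸ Subgroup.card_le_of_le hmT)
    (card_cm m' T₀ ▸ Subgroup.card_le_of_le hmT')
  have hT0 : cm m T = T₀ := Subgroup.eq_of_le_of_card_ge hmT (by rw [card_cm, hcard])
  have e : cm (m * x * m⁻¹) (cm m A) = cm m (cm x A) := by
    rw [cm_cm, show m * x * m⁻¹ * m = m * x by group, ← cm_cm]
  obtain ⟨n, c, h0, hs, hc, hl⟩ := hctl (cm m A : Set G) (m * x * m⁻¹) (mul_mem (mul_mem hm hxL) (inv_mem hm))
    (fun a ha => hT0.le (cm_mono hA ha)) (by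
      rintro _ ⟨a, ha, rfl⟩
      exact hT0.le (cm_mono hx (e.le (conj_mem_cm ha))))
  have h1 : Chain T₀ ((L : Set G) ∩ steps 𝓦 T₀) (cm m A) (m * x * m⁻¹) :=
    chain_of_fin n c h0 (fun i => by
      obtain ⟨W, hW, h1, h2⟩ := hs i
      exact ⟨h1, W, hW, h2⟩) (fun i => by
      rintro _ ⟨a, ha, rfl⟩
      exact hc i ⟨a, ha, rfl⟩) hl
  have h2 := h1.conj (S' := (L : Set G) ∩ steps 𝓦 T) m⁻¹ (by
    rintro l ⟨hlL, W, hW, hl⟩
    refine ⟨mul_mem (mul_mem (inv_mem hm) hlL) (inv_mem (inv_mem hm)), W, hW, Local.mem_normalizer_of_map_conj_eq (?_)⟩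
    exact (by
      have e1 : W T = cm m⁻¹ (W T₀) := by
        rw [← hT0, (h𝓦 W hW T hT).2.2 m]
        exact (cm_inv_cm m (W T)).symm
      show cm _ (W T) = W T
      rw [e1, cm_cm, show m⁻¹ * l * m⁻¹⁻¹ * m⁻¹ = m⁻¹ * l by group, ← cm_cm]
      exact congrArg (cm m⁻¹) (Local.map_conj_eq_of_mem_normalizer hl)))
  rwa [← hT0, cm_inv_cm, cm_inv_cm, show m⁻¹ * (m * x * m⁻¹) * m⁻¹⁻¹ = x by group] at h2

theorem not_dvd_relIndex_of_full {P U : Subgroup G} (h : Full p P U) :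
    ¬ p ∣ (P ⊓ Subgroup.normalizer (U : Set G)).relIndex (Subgroup.normalizer (U : Set G)) := h

/-- Every subgroup of a Sylow subgroup has a well placed conjugate. -/
theorem exists_wellPlaced (P : Sylow p G) {W : Subgroup G → Subgroup G}
    (hW : ∀ T ≤ (P : Subgroup G), T ≠ ⊥ →
      W T ≤ T ∧ W T ≠ ⊥ ∧ (P : Subgroup G) ⊓ Subgroup.normalizer (T : Set G) ≤ Subgroup.normalizer (W T : Set G))
    (hequiv : ∀ T ≤ (P : Subgroup G), ∀ y, cm y T ≤ (P : Subgroup G) → W (cm y T) = cm y (W T))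
    {U : Subgroup G} (hU : U ≤ (P : Subgroup G)) :
    ∃ y, cm y ((P : Subgroup G) ⊓ Subgroup.normalizer (U : Set G)) ≤ (P : Subgroup G) ∧
      IsWellPlaced p W (P : Subgroup G) (cm y U) := by
  induction hk : Nat.card G - Nat.card ↥((P : Subgroup G) ⊓ Subgroup.normalizer (U : Set G)) using Nat.strong_induction_on
    generalizing U with
  | h k ih =>
  subst hk
  rcases eq_or_ne U ⊥ with rfl | hU0
  · obtain ⟨y, hy, hyf⟩ := exists_full P hU
    refine ⟨y, hy, ?_⟩
    have e : cm y (⊥ : Subgroup G) = ⊥ := Subgroup.map_bot _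
    rw [e] at hyf ⊢
    have hN : Subgroup.normalizer ((⊥ : Subgroup G) : Set G) = ⊤ := Subgroup.normalizer_eq_top _
    have h1 : functorTower W (P : Subgroup G) ⊥ 1 = W (P : Subgroup G) := by
      show W ((P : Subgroup G) ⊓ _) = _
      rw [show functorTower W (P : Subgroup G) ⊥ 0 = ⊥ from rfl, hN, inf_top_eq]
    have hPW : (P : Subgroup G) ≤ Subgroup.normalizer (W (P : Subgroup G) : Set G) := by
      rcases eq_or_ne (P : Subgroup G) ⊥ with h | h
      · rw [h]; exact bot_le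
      · exact (le_inf le_rfl Subgroup.le_normalizer).trans (hW _ le_rfl h).2.2
    have h2 : ∀ i, functorTower W (P : Subgroup G) ⊥ (i + 1) = W (P : Subgroup G) := by
      intro i
      induction i with
      | zero => exact h1
      | succ i ihi =>
        show W ((P : Subgroup G) ⊓ _) = _
        rw [ihi, inf_eq_left.2 hPW]
    refine ⟨hU, fun i hdvd => ?_⟩
    rcases i with _ | i
    · exact hyf hdvd
    · rw [h2 i, inf_eq_left.2 hPW] at hdvd
      exact P.not_dvd_index (hdvd.trans (Subgroup.relIndex_dvd_index_of_le hPW))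
  obtain ⟨y₁, hy₁, hfull⟩ := exists_full P hU
  have hy₁' := cm_inf_normalizer_le y₁ hy₁
  set U₁ := cm y₁ U with hU₁
  set T₁ := (P : Subgroup G) ⊓ Subgroup.normalizer (U₁ : Set G) with hT₁
  have hU₁P : U₁ ≤ (P : Subgroup G) := (cm_mono (le_inf hU Subgroup.le_normalizer)).trans hy₁
  have hU₁0 : U₁ ≠ ⊥ := fun h => hU0 ((Subgroup.map_eq_bot_iff_of_injective U (MulAut.conj y₁).injective).1 h)
  have hT₁0 : T₁ ≠ ⊥ := fun h => hU₁0 (le_bot_iff.1 (h ▸ le_inf hU₁P Subgroup.le_normalizer))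
  obtain ⟨hWT, hW0, hWn⟩ := hW T₁ inf_le_left hT₁0
  by_cases hT₁P : T₁ = (P : Subgroup G)
  · refine ⟨y₁, hy₁, hU₁P, fun i => ?_⟩
    have hPW : (P : Subgroup G) ≤ Subgroup.normalizer (W (P : Subgroup G) : Set G) := by
      rw [hT₁P] at hWn
      exact (le_inf le_rfl Subgroup.le_normalizer).trans hWn
    have h2 : ∀ i, functorTower W (P : Subgroup G) U₁ (i + 1) = W (P : Subgroup G) := by
      intro i
      induction i with
      | zero =>
        show W ((P : Subgroup G) ⊓ _) = _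
        exact congrArg W hT₁P
      | succ i ihi =>
        show W ((P : Subgroup G) ⊓ _) = _
        rw [ihi, inf_eq_left.2 hPW]
    rcases i with _ | i
    · exact hfull
    · intro hdvd
      rw [h2 i, inf_eq_left.2 hPW] at hdvd
      exact P.not_dvd_index (hdvd.trans (Subgroup.relIndex_dvd_index_of_le hPW))
  have hlt : T₁ < (P : Subgroup G) ⊓ Subgroup.normalizer (W T₁ : Set G) :=
    (lt_inf_normalizer P inf_le_left hT₁P).trans_le (le_inf inf_le_left hWn)
  obtain ⟨y₂, hy₂, hwp⟩ := ih (Nat.card G - Nat.card ↥((P : Subgroup G) ⊓ Subgroup.normalizer (W T₁ : Set G))) (by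
      have := Subgroup.card_le_of_le hy₁'
      rw [card_cm] at this
      have h2 : Nat.card T₁ < Nat.card ↥((P : Subgroup G) ⊓ Subgroup.normalizer (W T₁ : Set G)) :=
        lt_of_le_of_ne (Subgroup.card_le_of_le hlt.le) fun h => hlt.ne (Subgroup.eq_of_le_of_card_ge hlt.le h.ge)
      have := Nat.le_of_dvd Nat.card_pos ((P : Subgroup G) ⊓ Subgroup.normalizer (W T₁ : Set G)).card_subgroup_dvd_card
      omega) (hWT.trans inf_le_left) rfl
  have hT₁y : cm y₂ T₁ ≤ (P : Subgroup G) := (cm_mono hlt.le).trans hy₂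
  refine ⟨y₂ * y₁, by rw [← cm_cm]; exact (cm_mono hy₁').trans hT₁y, ?_⟩
  rw [← cm_cm, ← hU₁]
  set U₂ := cm y₂ U₁ with hU₂
  have hN₂ : Subgroup.normalizer (U₂ : Set G) = cm y₂ (Subgroup.normalizer (U₁ : Set G)) :=
    (Subgroup.map_normalizer_eq_of_bijective U₁ (f := (MulAut.conj y₂).toMonoidHom) (MulAut.conj y₂).bijective).symm
  have hT₂ : (P : Subgroup G) ⊓ Subgroup.normalizer (U₂ : Set G) = cm y₂ T₁ := by
    refine (Subgroup.eq_of_le_of_card_ge (cm_inf_normalizer_le y₂ hT₁y) ?_).symm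
    obtain ⟨w, -, hw⟩ := exists_conj_le (Q := T₁) inf_le_right (P.2.to_le inf_le_left) hfull
      (R := cm y₂⁻¹ ((P : Subgroup G) ⊓ Subgroup.normalizer (U₂ : Set G)))
      ((cm_mono inf_le_right).trans (by rw [hN₂, cm_inv_cm])) ((P.2.to_le inf_le_left).map _)
    rw [card_cm]
    exact (card_cm _ _).symm.le.trans ((card_cm w _).symm.le.trans (Subgroup.card_le_of_le hw))
  have htower : ∀ i, functorTower W (P : Subgroup G) U₂ (i + 1) = functorTower W (P : Subgroup G) (cm y₂ (W T₁)) i := by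
    intro i
    induction i with
    | zero =>
      show W ((P : Subgroup G) ⊓ _) = cm y₂ (W T₁)
      rw [← hequiv T₁ inf_le_left y₂ hT₁y, ← hT₂]
      rfl
    | succ i ihi =>
      show W ((P : Subgroup G) ⊓ _) = W ((P : Subgroup G) ⊓ _)
      rw [ihi]
  refine ⟨(cm_mono (le_inf hU₁P Subgroup.le_normalizer)).trans hT₁y, fun i => ?_⟩
  rcases i with _ | i
  · show ¬ p ∣ ((P : Subgroup G) ⊓ Subgroup.normalizer (U₂ : Set G)).relIndex (Subgroup.normalizer (U₂ : Set G))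
    rw [hT₂, hN₂, Subgroup.relIndex_map_map_of_injective _ _ (MulAut.conj y₂).injective]
    exact hfull
  · rw [htower i]
    exact hwp.2 i

end CfsgLib.StrongFusion
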