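import Cfsg.Agent.Lib.StrongFusion.Complement
import Cfsg.Agent.Lib.TransferControl.Sections

/-!
Reduction of normal `p`-complements to sections in which a Sylow `p`-subgroup is maximal.
-/

set_option autoImplicit false
set_option maxHeartbeats 600000
set_option linter.unusedSectionVars false

namespace CfsgLib.StrongFusion

open Subgroup Cfsg CfsgLib CfsgLib.ZJ
open scoped Pointwise commutatorElement

universe u
variable {p : ℕ}

/-- `W` is normal in the constrained sections with a maximal Sylow subgroup and `p`-nilpotent quotient by `O_p`. -/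
def MaxStep (p : ℕ) [Fact p.Prime] (W : ∀ (Q : Type u) [Group Q], Subgroup Q) (G : Type u) [Group G] : Prop :=
  ∀ (Y : Type u) [Group Y] [Finite Y], Involves Y G →
    Subgroup.centralizer (pCore p Y : Set Y) ≤ pCore p Y → HasNormalPComplement p (Y ⧸ pCore p Y) →
    ∀ T : Sylow p Y, IsCoatom (T : Subgroup Y) → (inducedFunctor W (T : Subgroup Y)).Normal

variable [Fact p.Prime] {W : ∀ (Q : Type u) [Group Q], Subgroup Q} {G : Type u} [Group G]

theorem MaxStep.of_injective (h : MaxStep p W G) {X : Type u} [Group X] (f : X →* G)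
    (hf : Function.Injective f) : MaxStep p W X := fun Y _ _ hY =>
  h Y (involves_of_injective f hf hY)

theorem MaxStep.of_surjective (h : MaxStep p W G) {X : Type u} [Group X] (f : G →* X)
    (hf : Function.Surjective f) : MaxStep p W X := fun Y _ _ hY =>
  h Y (involves_of_quotientHom f hf hY)

/-- The printed hypothesis gives `MaxStep`. -/
theorem maxStep_of_sections [Finite G] (hW : IsCharPFunctor p W)
    (h : ∀ (K R : Subgroup G) [(R.subgroupOf K).Normal],
      Subgroup.centralizer ((pCore p (↥K ⧸ R.subgroupOf K) : Subgroup (↥K ⧸ R.subgroupOf K)) : Set (↥K ⧸ R.subgroupOf K)) ≤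
        pCore p (↥K ⧸ R.subgroupOf K) →
      HasNormalPComplement p ((↥K ⧸ R.subgroupOf K) ⧸ pCore p (↥K ⧸ R.subgroupOf K)) →
      ∀ T : Sylow p (↥K ⧸ R.subgroupOf K), IsCoatom (T : Subgroup (↥K ⧸ R.subgroupOf K)) →
        (inducedFunctor W (T : Subgroup (↥K ⧸ R.subgroupOf K))).Normal) : MaxStep p W G := by
  intro Y _ _ hY hcon hnpc T hT
  refine TransferControl.involves_elim hY fun K R _ e => ?_
  have hq : HasNormalPComplement p ((↥K ⧸ R.subgroupOf K) ⧸ pCore p (↥K ⧸ R.subgroupOf K)) :=
    hasNormalPComplement_of_equiv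
      (QuotientGroup.congr (pCore p Y) (pCore p (↥K ⧸ R.subgroupOf K)) e.symm (pCore_map_equiv p e.symm)) hnpc
  have hT' : IsCoatom ((T.mapSurjective (f := e.symm.toMonoidHom) e.symm.surjective :
      Sylow p (↥K ⧸ R.subgroupOf K)) : Subgroup (↥K ⧸ R.subgroupOf K)) :=
    (e.symm.mapSubgroup).isCoatom_iff _ |>.2 hT
  have h1 := h K R (constrained_of_equiv e hcon) hq _ hT'
  replace h1 : (inducedFunctor W ((T : Subgroup Y).map e.symm.toMonoidHom)).Normal := h1
  rw [inducedFunctor_map hW _ T.2 e.symm.injective.injOn] at h1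
  have h2 := h1.map e.toMonoidHom e.surjective
  rwa [Subgroup.map_map, show e.toMonoidHom.comp e.symm.toMonoidHom = MonoidHom.id Y from
    MonoidHom.ext fun y => e.apply_symm_apply y, Subgroup.map_id] at h2

/-- A Sylow subgroup is maximal when `M` has no invariant subgroup above `O`. -/
theorem isCoatom_sylow [Finite G] (P : Sylow p G) (M O : Subgroup G) [M.Normal] (hMq : IsPGroup p (G ⧸ M))
    (hOP : O ≤ (P : Subgroup G)) (hOM : O ≤ M)
    (hinv : ∀ L : Subgroup G, O ≤ L → L ≤ M → L ≠ M →
      (P : Subgroup G) ≤ Subgroup.normalizer (L : Set G) → L = O)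
    (hPtop : (P : Subgroup G) ≠ ⊤) : IsCoatom (P : Subgroup G) := by
  refine ⟨hPtop, fun X hPX => ?_⟩
  by_contra hXtop
  have hPM : (P : Subgroup G) ⊔ M = ⊤ := by
    rw [sup_comm]
    exact sylow_sup_eq_top_of_pResidual_le P (pResidual_le_of_isPGroup_quotient hMq)
  set L := X ⊓ M with hL
  have hPL : (P : Subgroup G) ≤ Subgroup.normalizer (L : Set G) := fun t ht => by
    refine Local.mem_normalizer_of_map_conj_eq ?_
    rw [hL, Subgroup.map_inf _ _ _ (MulAut.conj t).injective,
      Local.map_conj_eq_of_mem_normalizer (Subgroup.le_normalizer (hPX.le ht)),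
      Local.map_conj_eq_of_mem_normalizer (Subgroup.le_normalizer_of_normal (H := M) (Subgroup.mem_top t))]
  by_cases hLM : L = M
  · refine hXtop (top_le_iff.1 ?_)
    rw [← hPM]
    exact sup_le hPX.le (hLM.ge.trans inf_le_left)
  have hLO := hinv L (le_inf (hOP.trans hPX.le) hOM) inf_le_right hLM hPL
  refine hPX.not_ge fun x hx => ?_
  obtain ⟨t, ht, m, hm, rfl⟩ := Subgroup.mem_sup_of_normal_right.1 (hPM ▸ Subgroup.mem_top x)
  have hmX : m ∈ X := by
    have := X.mul_mem (X.inv_mem (hPX.le ht)) hx
    rwa [inv_mul_cancel_left] at this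
  exact mul_mem ht (hOP (hLO.le ⟨hmX, hm⟩))

/-- Normal `p`-complements from normality in sections with a maximal Sylow subgroup. -/
theorem hasNormalPComplement_of_maximal {G : Type u} [Group G] [Finite G] [Fact p.Prime]
    {W : ∀ (Q : Type u) [Group Q], Subgroup Q} (hW : IsCharPFunctor p W) (P : Sylow p G)
    (hctl : MaxStep p W G)
    (hN : HasNormalPComplement p (Subgroup.normalizer (inducedFunctor W (P : Subgroup G) : Set G))) :
    HasNormalPComplement p G := by
  induction hn : Nat.card G using Nat.strong_induction_on generalizing G with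
  | h n ih =>
    subst hn
    have hp : p.Prime := Fact.out
    have hconj : ∀ T : Sylow p G,
        HasNormalPComplement p (Subgroup.normalizer (inducedFunctor W (T : Subgroup G) : Set G)) := by
      intro T
      obtain ⟨g, hg⟩ := MulAction.exists_smul_eq G P T
      rw [← hg, Sylow.coe_subgroup_smul]
      rw [show inducedFunctor W (MulAut.conj g • (P : Subgroup G)) = MulAut.conj g • inducedFunctor W (P : Subgroup G) from
        inducedFunctor_cm hW P.2 g, normalizer_conj_smul, Subgroup.pointwise_smul_def]
      exact hasNormalPComplement_map _ hN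
    have hsub : ∀ (X : Subgroup G) (R : Sylow p X), X ≠ ⊤ →
        HasNormalPComplement p (Subgroup.normalizer (inducedFunctor W ((R : Subgroup X).map X.subtype) : Set G)) →
        HasNormalPComplement p X := fun X R hX h =>
      ih _ (card_lt_of_lt_top hX.lt_top) R (hctl.of_injective X.subtype X.subtype_injective) (npc_sub_induced hW X R h) rfl
    by_contra hG
    set bad : Set (Subgroup G) := {Q | IsPGroup p Q ∧ Q ≠ ⊥ ∧
      ¬ HasNormalPComplement p (Subgroup.normalizer (Q : Set G))} with hbad
    let f : Subgroup G → ℕ := fun Q => p ^ (Nat.card (Subgroup.normalizer (Q : Set G))).factorization p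
    have hne : bad.Nonempty := by
      by_contra h
      rw [Set.not_nonempty_iff_eq_empty] at h
      refine hG (hasNormalPComplement_of_local fun Q hQ hQ0 => ?_)
      by_contra h'
      exact (Set.eq_empty_iff_forall_notMem.mp h) Q ⟨hQ, hQ0, h'⟩
    obtain ⟨H₁, hH₁, hmax₁⟩ := Set.exists_max_image bad f (Set.toFinite _) hne
    obtain ⟨H, ⟨hH, hfH⟩, hmax₂⟩ := Set.exists_max_image {Q | Q ∈ bad ∧ f Q = f H₁}
      (fun Q => Nat.card Q) (Set.toFinite _) ⟨H₁, hH₁, rfl⟩
    -- the maximal bad subgroup is normal
    have hNtop : Subgroup.normalizer (H : Set G) = ⊤ := by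
      by_contra hNne
      set N := Subgroup.normalizer (H : Set G) with hNdef
      obtain ⟨R⟩ := (inferInstance : Nonempty (Sylow p N))
      set R' := (R : Subgroup N).map N.subtype with hR'
      have hR'p : IsPGroup p R' := R.2.map _
      obtain ⟨T, hT⟩ := hR'p.exists_le_sylow
      by_cases heq : R' = (T : Subgroup G)
      · exact hH.2.2 (hsub N R hNne (by rw [← hR', heq]; exact hconj T))
      have hHR : H ≤ R' := by
        have h1 : H.subgroupOf N ≤ (R : Subgroup N) := by
          haveI : (H.subgroupOf N).Normal := Subgroup.normal_in_normalizer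
          exact (le_pCore (N := H.subgroupOf N) hH.1.comap_subtype).trans (pCore_le_sylow R)
        intro x hx
        exact ⟨⟨x, Subgroup.le_normalizer hx⟩, h1 hx, rfl⟩
      have hR'0 : R' ≠ ⊥ := fun e => hH.2.1 (le_bot_iff.mp (e ▸ hHR))
      set X := inducedFunctor W R' with hX
      have hlt := inf_normalizer_lt T hT heq
      have hXgood : HasNormalPComplement p (Subgroup.normalizer (X : Set G)) := by
        by_contra hXb
        have hle := hmax₁ X ⟨hR'p.to_le (inducedFunctor_le W R'), inducedFunctor_ne_bot hW hR'p hR'0, hXb⟩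
        rw [← hfH] at hle
        have h1 : Nat.card ↥((T : Subgroup G) ⊓ Subgroup.normalizer (R' : Set G)) ≤ f X :=
          card_le_pPart (inf_le_right.trans (normalizer_le_normalizer_induced hW hR'p)) (T.2.to_le inf_le_left)
        have h2 : Nat.card R' = f H := by
          rw [hR', Subgroup.card_map_of_injective N.subtype_injective]
          exact R.card_eq_multiplicity
        have h3 : Nat.card R' < Nat.card ↥((T : Subgroup G) ⊓ Subgroup.normalizer (R' : Set G)) :=
          lt_of_le_of_ne (Subgroup.card_le_of_le hlt.le) fun h =>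
            hlt.ne (Subgroup.eq_of_le_of_card_ge hlt.le h.ge)
        omega
      exact hH.2.2 (hsub N R hNne hXgood)
    haveI hHn : H.Normal := Subgroup.normalizer_eq_top_iff.mp hNtop
    set O := pCore p G with hO
    have hHO : H ≤ O := le_pCore hH.1
    have hfull : f H = p ^ (Nat.card G).factorization p := by
      simp only [f, hNtop, Subgroup.card_top]
    have hgoodX : ∀ X : Subgroup G, IsPGroup p X → O < X → ∀ T : Sylow p G,
        (T : Subgroup G) ≤ Subgroup.normalizer (X : Set G) →
        HasNormalPComplement p (Subgroup.normalizer (X : Set G)) := by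
      intro X hXp hOX T hT
      by_contra hXb
      have hX0 : X ≠ ⊥ := fun e => (bot_le (a := O)).not_gt (e ▸ hOX)
      have h1 : f H ≤ f X := by
        rw [hfull, ← T.card_eq_multiplicity]
        exact card_le_pPart hT T.2
      have h2 : f X = f H₁ := le_antisymm (hmax₁ X ⟨hXp, hX0, hXb⟩) (hfH ▸ h1)
      have h3 := hmax₂ X ⟨⟨hXp, hX0, hXb⟩, h2⟩
      exact (lt_of_lt_of_le (lt_of_le_of_lt hHO hOX) le_rfl).ne
        (Subgroup.eq_of_le_of_card_ge (hHO.trans hOX.le) h3)
    -- `O_{p'}(G) = 1`
    have hK1 : pPrimeCore p G = ⊥ := by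
      by_contra hne'
      set K := pPrimeCore p G with hK
      let π := QuotientGroup.mk' K
      have hs : Function.Surjective π := QuotientGroup.mk'_surjective K
      have hlt : Nat.card (G ⧸ K) < Nat.card G := by
        rw [Subgroup.card_eq_card_quotient_mul_card_subgroup K]
        haveI : Nontrivial K := (Subgroup.nontrivial_iff_ne_bot K).mpr hne'
        exact lt_mul_of_one_lt_right Nat.card_pos Finite.one_lt_card
      have hdisj : ∀ A : Subgroup G, IsPGroup p A → Disjoint A K := by
        intro A hA
        obtain ⟨k, hk⟩ := hA.exists_card_eq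
        exact Subgroup.disjoint_of_coprime_natCard (by
          rw [hk]; exact ((card_pPrimeCore_coprime p).pow_right k).symm)
      have hinj : Set.InjOn π ((P : Subgroup G) : Set G) := by
        intro x hx y hy hxy
        have h1 : x⁻¹ * y ∈ K := QuotientGroup.eq.mp hxy
        exact inv_mul_eq_one.mp (Subgroup.disjoint_def.mp (hdisj _ P.2) (mul_mem (inv_mem hx) hy) h1)
      set Z := inducedFunctor W (P : Subgroup G) with hZ
      have hZmap : inducedFunctor W ((P : Subgroup G).map π) = Z.map π := inducedFunctor_map hW π P.2 hinj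
      have hnorm : Subgroup.normalizer ((Z.map π : Subgroup (G ⧸ K)) : Set (G ⧸ K)) ≤
          (Subgroup.normalizer (Z : Set G)).map π := by
        intro y hy
        obtain ⟨g, rfl⟩ := hs y
        set Y := Z ⊔ K with hY
        set Z' := MulAut.conj g • Z with hZ'
        have hZ'Y : Z' ≤ Y := fun x hx => by
          have h1 : π x ∈ Z.map π := by
            have h2 : π (g⁻¹ * x * g) ∈ Z.map π := Subgroup.mem_map_of_mem π (mem_conj_smul_iff.mp hx)
            have h3 := (Subgroup.mem_normalizer_iff.mp hy _).mp h2
            simpa [mul_assoc] using h3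
          have h4 : x ∈ (Z.map π).comap π := h1
          rwa [Subgroup.comap_map_eq, QuotientGroup.ker_mk'] at h4
        haveI : (K.subgroupOf Y).Normal := Subgroup.normal_subgroupOf
        have hcK : Nat.card (K.subgroupOf Y) = Nat.card K :=
          Nat.card_congr (Subgroup.subgroupOfEquivOfLe (le_sup_right : K ≤ Y)).toEquiv
        have hZp : IsPGroup p Z := P.2.to_le (inducedFunctor_le W _)
        have hcomp : Subgroup.IsComplement' (K.subgroupOf Y) (Z.subgroupOf Y) := by
          refine isComplement'_of_disjoint_and_mul_eq_univ ?_ ?_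
          · rw [Subgroup.disjoint_def]
            intro x hx hx'
            exact Subtype.ext (Subgroup.disjoint_def.mp (hdisj _ hZp) hx' hx)
          · rw [← Subgroup.normal_mul, ← Subgroup.subgroupOf_sup le_sup_right le_sup_left, sup_comm,
              Subgroup.subgroupOf_self, Subgroup.coe_top]
        obtain ⟨k, hk⟩ := hZp.exists_card_eq
        have hcop : (Nat.card (K.subgroupOf Y)).Coprime (K.subgroupOf Y).index := by
          rw [hcK, hcomp.symm.index_eq_card, Nat.card_congr (Subgroup.subgroupOfEquivOfLe le_sup_left).toEquiv, hk]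
          exact (card_pPrimeCore_coprime p).pow_right k
        have hcomp' : Subgroup.IsComplement' (K.subgroupOf Y) (Z'.subgroupOf Y) := by
          refine isComplement'_of_card hcop ?_
          rw [Nat.card_congr (Subgroup.subgroupOfEquivOfLe hZ'Y).toEquiv, hZ', card_conj_smul,
            hcomp.symm.index_eq_card, Nat.card_congr (Subgroup.subgroupOfEquivOfLe le_sup_left).toEquiv]
        haveI : Group.IsNilpotent (Y ⧸ K.subgroupOf Y) := by
          refine (IsPGroup.of_card (p := p) (n := k) ?_).isNilpotent
          rw [← Subgroup.index_eq_card, hcomp.symm.index_eq_card,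
            Nat.card_congr (Subgroup.subgroupOfEquivOfLe le_sup_left).toEquiv, hk]
        obtain ⟨u, hu, huZ⟩ := complements_conj_mem hcop (Or.inr inferInstance) hcomp hcomp'
        have h := conj_subgroupOf le_sup_left hZ'Y huZ
        refine ⟨(u : G)⁻¹ * g, ?_, ?_⟩
        · rw [SetLike.mem_coe, Subgroup.mem_normalizer_iff]
          have h2 : MulAut.conj ((u : G)⁻¹ * g) • Z = Z := by
            rw [← conj_smul_mul, ← hZ', ← h, conj_smul_mul, inv_mul_cancel, map_one, one_smul]
          intro x
          conv_rhs => rw [← h2, mem_conj_smul_iff]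
          simp [mul_assoc]
        · rw [map_mul, map_inv, show π (u : G) = 1 from (QuotientGroup.eq_one_iff _).mpr hu, inv_one, one_mul]
      refine hG ?_
      have hq := ih _ hlt (P.mapSurjective hs) (hctl.of_surjective π hs) (by
        show HasNormalPComplement p (Subgroup.normalizer (inducedFunctor W ((P : Subgroup G).map π) : Set (G ⧸ K)))
        rw [hZmap]
        exact hasNormalPComplement_of_le hnorm (hasNormalPComplement_map π hN)) rfl
      rw [hasNormalPComplement_iff] at hq ⊢
      have hb : pPrimeCore p (G ⧸ K) = ⊥ := pPrimeCore_quotient_eq_bot p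
      intro x
      obtain ⟨k, hk⟩ := hq (QuotientGroup.mk x)
      refine ⟨k, ?_⟩
      rw [← QuotientGroup.mk_pow, QuotientGroup.eq_one_iff, hb, Subgroup.mem_bot] at hk
      exact hk
    -- `G / O_p(G)` has a normal `p`-complement
    have hPO : (P : Subgroup G) ≠ O := by
      intro h
      refine hG ?_
      have h1 : Subgroup.normalizer (inducedFunctor W (P : Subgroup G) : Set G) = ⊤ := by
        rw [eq_top_iff]
        refine le_trans ?_ (normalizer_le_normalizer_induced hW P.2)
        rw [h]
        exact (Subgroup.normalizer_eq_top_iff.mpr inferInstance).ge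
      rw [h1] at hN
      exact hasNormalPComplement_of_equiv Subgroup.topEquiv hN
    let π := QuotientGroup.mk' O
    have hs : Function.Surjective π := QuotientGroup.mk'_surjective O
    have hO0 : O ≠ ⊥ := fun e => hH.2.1 (le_bot_iff.mp (e ▸ hHO))
    have hltQ : Nat.card (G ⧸ O) < Nat.card G := by
      rw [Subgroup.card_eq_card_quotient_mul_card_subgroup O]
      haveI : Nontrivial O := (Subgroup.nontrivial_iff_ne_bot O).mpr hO0
      exact lt_mul_of_one_lt_right Nat.card_pos Finite.one_lt_card
    have hQnpc : HasNormalPComplement p (G ⧸ O) := by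
      refine ih _ hltQ (P.mapSurjective hs) (hctl.of_surjective π hs) ?_ rfl
      set T : Subgroup (G ⧸ O) := (P.mapSurjective hs : Subgroup (G ⧸ O)) with hT
      have hTmap : T = (P : Subgroup G).map π := rfl
      have hT0 : T ≠ ⊥ := fun e => hPO (le_antisymm (by
        rw [hTmap, Subgroup.map_eq_bot_iff, QuotientGroup.ker_mk'] at e
        exact e) (pCore_le_sylow P))
      set Z := inducedFunctor W T with hZ
      have hZp : IsPGroup p Z := (P.mapSurjective hs).2.to_le (inducedFunctor_le W T)
      set X := Z.comap π with hX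
      have hOX : O < X := by
        refine lt_of_le_of_ne (fun x hx => ?_) fun h => ?_
        · rw [hX, Subgroup.mem_comap, show π x = 1 from (QuotientGroup.eq_one_iff x).mpr hx]
          exact one_mem _
        · refine inducedFunctor_ne_bot hW (P.mapSurjective hs).2 hT0 ((Subgroup.eq_bot_iff_forall _).mpr fun y hy => ?_)
          obtain ⟨g, rfl⟩ := hs y
          exact (QuotientGroup.eq_one_iff g).mpr (h.ge hy)
      have hXp : IsPGroup p X := hZp.comap_of_ker_isPGroup π (by
        rw [QuotientGroup.ker_mk']; exact isPGroup_pCore p)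
      have hNX : Subgroup.normalizer (X : Set G) = (Subgroup.normalizer (Z : Set (G ⧸ O))).comap π :=
        (Subgroup.comap_normalizer_eq_of_surjective Z hs).symm
      have hPX : (P : Subgroup G) ≤ Subgroup.normalizer (X : Set G) := by
        rw [hNX]
        exact fun x hx => (Subgroup.le_normalizer.trans (normalizer_le_normalizer_induced hW (P.mapSurjective hs).2))
          (Subgroup.mem_map_of_mem π hx)
      have h1 := hgoodX X hXp hOX P hPX
      rw [hNX] at h1
      have h2 := hasNormalPComplement_map π h1
      rwa [Subgroup.map_comap_eq_self_of_surjective hs] at h2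
    set Kb := pPrimeCore p (G ⧸ O) with hKb
    set M := Kb.comap π with hM
    haveI hMn : M.Normal := Subgroup.normal_comap _
    have hQp : IsPGroup p ((G ⧸ O) ⧸ Kb) := isPGroup_quotient_of_hasNormalPComplement hQnpc
    have hKcop : ∀ m ∈ M, ∀ k : ℕ, m ^ p ^ k ∈ O → m ∈ O := by
      intro m hm k hmp
      have hmK : π m ∈ Kb := Subgroup.mem_comap.mp hm
      have h1 : (orderOf (π m)).Coprime p :=
        Nat.Coprime.coprime_dvd_left (Subgroup.orderOf_dvd_natCard Kb hmK)
          (card_pPrimeCore_coprime (G := G ⧸ O) p)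
      have h2 : (π m) ^ p ^ k = 1 := by
        rw [← map_pow]
        exact (QuotientGroup.eq_one_iff (N := O) _).mpr hmp
      have h3 : π m = 1 := orderOf_eq_one_iff.mp
        (Nat.eq_one_of_dvd_coprimes (h1.pow_right k) dvd_rfl (orderOf_dvd_of_pow_eq_one h2))
      exact (QuotientGroup.eq_one_iff (N := O) m).mp h3
    have hcop1 : ∀ m ∈ M, m ^ p ∈ O → m ∈ O := fun m hm h => hKcop m hm 1 (by rwa [pow_one])
    have hpel : ∀ m ∈ M, (∃ k, m ^ p ^ k = 1) → m ∈ O := fun m hm ⟨k, hk⟩ =>
      hKcop m hm k (by rw [hk]; exact one_mem _)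
    have hMq : IsPGroup p (G ⧸ M) := by
      intro x
      obtain ⟨g, rfl⟩ := QuotientGroup.mk'_surjective M x
      obtain ⟨k, hk⟩ := hQp (QuotientGroup.mk (π g))
      refine ⟨k, ?_⟩
      rw [← map_pow]
      refine (QuotientGroup.eq_one_iff _).mpr ?_
      show π (g ^ p ^ k) ∈ Kb
      rw [map_pow]
      exact (QuotientGroup.eq_one_iff _).mp (by rw [QuotientGroup.mk_pow]; exact hk)
    -- `C(O) ≤ O`
    have hC : Subgroup.centralizer (O : Set G) ≤ O := by
      set C := Subgroup.centralizer (O : Set G) with hCdef
      haveI : C.Normal := Subgroup.normal_centralizer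
      set Y := M ⊓ C with hY
      haveI : Y.Normal := inferInstance
      obtain ⟨R⟩ := (inferInstance : Nonempty (Sylow p Y))
      have hRc : ∀ r ∈ (R : Subgroup Y), ∀ y : Y, y * r = r * y := by
        intro r hr y
        have hrO : (r : G) ∈ O := hpel _ r.2.1 (by
          obtain ⟨k, hk⟩ := exists_pow_eq_one_of_mem R.2 hr
          exact ⟨k, by simpa using congrArg Subtype.val hk⟩)
        exact Subtype.ext (y.2.2 (r : G) hrO).symm
      have hYnpc : HasNormalPComplement p Y :=
        hasNormalPComplement_of_normalizer_le_centralizer R fun y _ r hr => (hRc r hr y).symm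
      have hYK : pPrimeCore p Y = ⊥ := by
        refine (Subgroup.map_eq_bot_iff_of_injective _ Y.subtype_injective).mp ?_
        exact le_bot_iff.mp ((map_pPrimeCore_le p Y).trans hK1.le)
      have hYp : IsPGroup p Y := by
        have h1 := isPGroup_quotient_of_hasNormalPComplement hYnpc
        intro y
        obtain ⟨k, hk⟩ := h1 (QuotientGroup.mk y)
        refine ⟨k, ?_⟩
        rwa [← QuotientGroup.mk_pow, QuotientGroup.eq_one_iff, hYK, Subgroup.mem_bot] at hk
      refine le_pCore (N := C) ?_
      intro c
      obtain ⟨k, hk⟩ := hMq (QuotientGroup.mk (c : G))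
      rw [← QuotientGroup.mk_pow, QuotientGroup.eq_one_iff] at hk
      obtain ⟨l, hl⟩ := exists_pow_eq_one_of_mem hYp (⟨hk, pow_mem c.2 _⟩ : (c : G) ^ p ^ k ∈ Y)
      exact ⟨k + l, Subtype.ext (by simpa [pow_add, pow_mul] using hl)⟩
    -- `M / O` has no proper non-trivial `P`-invariant subgroup
    have hinv : ∀ L : Subgroup G, O ≤ L → L ≤ M → L ≠ M →
        (P : Subgroup G) ≤ Subgroup.normalizer (L : Set G) → L = O := by
      intro L hOL hLM hne hPL
      set X := L ⊔ (P : Subgroup G) with hX
      have hXtop : X ≠ ⊤ := by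
        intro h
        refine hne (le_antisymm hLM fun x hx => ?_)
        have hx' : x ∈ X := by rw [h]; exact Subgroup.mem_top x
        rw [hX] at hx'
        obtain ⟨l, hl, u, hu, rfl⟩ := mem_sup_of_le_normalizer hPL hx'
        have huM : u ∈ M := by
          have h2 := M.mul_mem (M.inv_mem (hLM hl)) hx
          simpa using h2
        exact mul_mem hl (hOL (hpel u huM (exists_pow_eq_one_of_mem P.2 hu)))
      have hXnpc : HasNormalPComplement p X := hsub X (P.subtype le_sup_right) hXtop (by
        rw [Sylow.coe_subtype, Subgroup.subgroupOf_map_subtype, inf_eq_left.mpr le_sup_right]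
        exact hN)
      set K := (pPrimeCore p X).map X.subtype with hK
      have hOX : O ≤ X := hOL.trans le_sup_left
      have hKC : K ≤ O := by
        refine le_trans ?_ hC
        rintro _ ⟨k, hk, rfl⟩ o ho
        haveI : (O.subgroupOf X).Normal := Subgroup.normal_subgroupOf
        have hd : Disjoint (O.subgroupOf X) (pPrimeCore p X) := by
          have hOp : IsPGroup p (O.subgroupOf X) := (isPGroup_pCore (G := G) p).comap_subtype (K := X)
          obtain ⟨j, hj⟩ := hOp.exists_card_eq
          exact Subgroup.disjoint_of_coprime_natCard (by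
            rw [hj]; exact ((card_pPrimeCore_coprime p).pow_right j).symm)
        exact congrArg Subtype.val (Subgroup.commute_of_normal_of_disjoint (O.subgroupOf X)
          (pPrimeCore p X) inferInstance inferInstance hd ⟨o, hOX ho⟩ k ho hk)
      have hXp : IsPGroup p X := by
        have h1 := isPGroup_quotient_of_hasNormalPComplement hXnpc
        intro y
        obtain ⟨k, hk⟩ := h1 (QuotientGroup.mk y)
        rw [← QuotientGroup.mk_pow, QuotientGroup.eq_one_iff] at hk
        obtain ⟨l, hl⟩ := exists_pow_eq_one_of_mem (isPGroup_pCore (G := G) p)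
          (hKC (Subgroup.mem_map_of_mem X.subtype hk))
        exact ⟨k + l, Subtype.ext (by simpa [pow_add, pow_mul] using hl)⟩
      refine le_antisymm (fun x hx => hpel x (hLM hx) ?_) hOL
      exact exists_pow_eq_one_of_mem hXp (Subgroup.mem_sup_left hx)
    have hPtop : (P : Subgroup G) ≠ ⊤ := fun h => hG (hasNormalPComplement_of_isPGroup
      ((h ▸ P.2 : IsPGroup p (⊤ : Subgroup G)).of_equiv Subgroup.topEquiv))
    have hPmax : IsCoatom (P : Subgroup G) := isCoatom_sylow P M O hMq (pCore_le_sylow P)
      (fun o ho => by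
        rw [hM, Subgroup.mem_comap, show π o = 1 from (QuotientGroup.eq_one_iff o).mpr ho]
        exact one_mem _) hinv hPtop
    have hnorm := hctl G involves_self hC hQnpc P hPmax
    rw [Subgroup.normalizer_eq_top_iff.mpr hnorm] at hN
    exact hG (hasNormalPComplement_of_equiv Subgroup.topEquiv hN)

end CfsgLib.StrongFusion
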